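import Groth.Agent.ShriekLib.BC.Basic

/-!
# Base change for sections with proper support and composition
-/

universe u

open CategoryTheory CategoryTheory.Limits AlgebraicGeometry Opposite

namespace ShriekLib.BC

set_option backward.isDefEq.respectTransparency false
set_option backward.isDefEq.respectTransparency.types false
set_option linter.unusedSectionVars false
set_option linter.style.haveILetI false

open Groth.Agent

variable {X U Y X' U' Y' : Scheme.{u}} {j : X ⟶ U} {p : U ⟶ Y} {g : Y' ⟶ Y} {g'' : U' ⟶ U} {g' : X' ⟶ X}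
  {j' : X' ⟶ U'} {p' : U' ⟶ Y'}

theorem bcSquare_comp (hj : g' ≫ j = j' ≫ g'') (hp : g'' ≫ p = p' ≫ g) (h : g' ≫ (j ≫ p) = (j' ≫ p') ≫ g)
    (V : Y.Etale) :
    (EtCoh.bc j').map (EtFound.bcSquare hp V) ≫ EtFound.bcSquare hj ((EtCoh.bc p).obj V) ≫
        (EtCoh.bc g').map (bcIso j p V).hom =
      (bcIso j' p' ((EtCoh.bc g).obj V)).hom ≫ EtFound.bcSquare h V := by
  let A := ((EtCoh.bc j').map (EtFound.bcSquare hp V)).left
  let B := (EtFound.bcSquare hj ((EtCoh.bc p).obj V)).left
  let C := ((EtCoh.bc g').map (bcIso j p V).hom).left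
  let D := (bcIso j' p' ((EtCoh.bc g).obj V)).hom.left
  let E := (EtFound.bcSquare h V).left
  refine MorphismProperty.Over.Hom.ext ?_
  show A ≫ B ≫ C = D ≫ E
  refine pullback.hom_ext ?_ ?_
  · apply pullback.hom_ext
    · have hC : C ≫ pullback.fst (pullback.snd V.hom (j ≫ p)) g' =
          pullback.fst (pullback.snd (pullback.snd V.hom p) j) g' ≫ (bcIso j p V).hom.left :=
        pullback.lift_fst _ _ _
      have hb := bcIso_prV j p V
      have hB : prT hj ((EtCoh.bc p).obj V) ≫ EtShriek.prV j ((EtCoh.bc p).obj V) =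
          EtShriek.prV j' ((EtCoh.bc g'').obj ((EtCoh.bc p).obj V)) ≫ pullback.fst (pullback.snd V.hom p) g'' :=
        prT_fst hj _
      have hA : A ≫ EtShriek.prV j' ((EtCoh.bc g'').obj ((EtCoh.bc p).obj V)) =
          EtShriek.prV j' ((EtCoh.bc p').obj ((EtCoh.bc g).obj V)) ≫ (EtFound.bcSquare hp V).left :=
        (isPullback_prV j' _).w
      have hP := prT_fst hp V
      have hD := bcIso_prV j' p' ((EtCoh.bc g).obj V)
      have hE := prT_fst h V
      have l1 : ((A ≫ B ≫ C) ≫ pullback.fst (pullback.snd V.hom (j ≫ p)) g') ≫ pullback.fst V.hom (j ≫ p) =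
          EtShriek.prV j' ((EtCoh.bc p').obj ((EtCoh.bc g).obj V)) ≫
            EtShriek.prV p' ((EtCoh.bc g).obj V) ≫ pullback.fst V.hom g := by
        calc ((A ≫ B ≫ C) ≫ pullback.fst (pullback.snd V.hom (j ≫ p)) g') ≫ pullback.fst V.hom (j ≫ p)
            = A ≫ B ≫ (C ≫ pullback.fst (pullback.snd V.hom (j ≫ p)) g') ≫ EtShriek.prV (j ≫ p) V := by
              simp only [Category.assoc]
          _ = A ≫ prT hj ((EtCoh.bc p).obj V) ≫ ((bcIso j p V).hom.left ≫ EtShriek.prV (j ≫ p) V) := by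
              rw [hC]; simp only [prT, Category.assoc]; rfl
          _ = A ≫ (prT hj ((EtCoh.bc p).obj V) ≫ EtShriek.prV j ((EtCoh.bc p).obj V)) ≫ EtShriek.prV p V := by
              rw [hb]; exact congrArg (A ≫ ·) (Category.assoc _ _ _).symm
          _ = (A ≫ EtShriek.prV j' ((EtCoh.bc g'').obj ((EtCoh.bc p).obj V))) ≫
                pullback.fst (pullback.snd V.hom p) g'' ≫ EtShriek.prV p V := by
              rw [hB]; simp only [Category.assoc]
          _ = EtShriek.prV j' ((EtCoh.bc p').obj ((EtCoh.bc g).obj V)) ≫ (prT hp V ≫ EtShriek.prV p V) := by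
              rw [hA]; simp only [prT, Category.assoc]
          _ = _ := by rw [hP]
      refine l1.trans ?_
      refine Eq.trans ?_ (congrArg (D ≫ ·) hE.symm |>.trans ?_)
      · exact ((Category.assoc _ _ _).symm.trans (congrArg (· ≫ _) hD.symm)).trans (Category.assoc _ _ _)
      · simp only [prT, Category.assoc]; rfl
    · refine ((Category.assoc _ _ _).trans (congrArg ((A ≫ B ≫ C) ≫ ·) pullback.condition)).trans ?_
      refine Eq.trans ?_ ((Category.assoc _ _ _).trans (congrArg ((D ≫ E) ≫ ·) pullback.condition)).symm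
      have w1 : (A ≫ B ≫ C) ≫ pullback.snd (pullback.snd V.hom (j ≫ p)) g' =
          ((EtCoh.bc j').obj ((EtCoh.bc p').obj ((EtCoh.bc g).obj V))).hom :=
        MorphismProperty.Over.w ((EtCoh.bc j').map (EtFound.bcSquare hp V) ≫
          EtFound.bcSquare hj ((EtCoh.bc p).obj V) ≫ (EtCoh.bc g').map (bcIso j p V).hom)
      have w2 : (D ≫ E) ≫ pullback.snd (pullback.snd V.hom (j ≫ p)) g' =
          ((EtCoh.bc j').obj ((EtCoh.bc p').obj ((EtCoh.bc g).obj V))).hom :=
        MorphismProperty.Over.w ((bcIso j' p' ((EtCoh.bc g).obj V)).hom ≫ EtFound.bcSquare h V)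
      exact (Category.assoc _ _ _).symm.trans ((congrArg (· ≫ g') (w1.trans w2.symm)).trans (Category.assoc _ _ _))
  · exact (MorphismProperty.Over.w ((EtCoh.bc j').map (EtFound.bcSquare hp V) ≫
        EtFound.bcSquare hj ((EtCoh.bc p).obj V) ≫ (EtCoh.bc g').map (bcIso j p V).hom)).trans
      (MorphismProperty.Over.w ((bcIso j' p' ((EtCoh.bc g).obj V)).hom ≫ EtFound.bcSquare h V)).symm

variable [LocallyOfFiniteType j] [IsSeparated p] [LocallyOfFiniteType p]
  [LocallyOfFiniteType j'] [IsSeparated p'] [LocallyOfFiniteType p']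

theorem phi_comp (hj : IsPullback g' j' j g'') (hp : IsPullback g'' p' p g) (F : EtCoh.Ab X) :
    phi (j ≫ p) g (j' ≫ p') g' (hj.paste_vert hp) F ≫ (shriekShComp j' p').hom.app ((EtCoh.pull g').obj F) =
      (EtCoh.pull g).map ((shriekShComp j p).hom.app F) ≫ phi p g p' g'' hp ((shriekSh j).obj F) ≫
        (shriekSh p').map (phi j g'' j' g' hj F) := by
  refine ((EtCoh.pullPushAdj g).homEquiv _ _).injective ?_
  rw [Adjunction.homEquiv_naturality_left]
  refine ObjectProperty.hom_ext _ ?_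
  ext V s
  rw [Adjunction.homEquiv_unit, Adjunction.homEquiv_unit]
  let u := ((EtCoh.pullPushAdj g).unit.app ((shriekSh p).obj ((shriekSh j).obj F))).hom.app V
  show ((shriekShComp j' p').hom.app ((EtCoh.pull g').obj F)).hom.app (op ((EtCoh.bc g).obj V.unop))
      ((phi (j ≫ p) g (j' ≫ p') g' (hj.paste_vert hp) F).hom.app (op ((EtCoh.bc g).obj V.unop))
        (((EtCoh.pullPushAdj g).unit.app ((shriekSh (j ≫ p)).obj F)).hom.app V s)) =
    ((shriekSh p').map (phi j g'' j' g' hj F)).hom.app (op ((EtCoh.bc g).obj V.unop))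
      ((phi p g p' g'' hp ((shriekSh j).obj F)).hom.app (op ((EtCoh.bc g).obj V.unop))
        (u (((shriekShComp j p).hom.app F).hom.app V s)))
  refine (congrArg _ (phi_unit (j ≫ p) g (j' ≫ p') g' (hj.paste_vert hp) F V.unop s)).trans ?_
  refine Eq.trans ?_ (congrArg _ (phi_unit p g p' g'' hp ((shriekSh j).obj F) V.unop
    (((shriekShComp j p).hom.app F).hom.app V s))).symm
  refine Subtype.ext ?_
  show _ = (phi j g'' j' g' hj F).hom.app (op ((EtCoh.bc p').obj ((EtCoh.bc g).obj V.unop)))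
    ((toPush p g p' g'' hp.w ((shriekSh j).obj F)).hom.app V (((shriekShComp j p).hom.app F).hom.app V s))
  refine Eq.trans ?_ (congrArg _ (toPush_app p g p' g'' hp.w ((shriekSh j).obj F) V.unop
    (((shriekShComp j p).hom.app F).hom.app V s))).symm
  refine Eq.trans ?_ (NatTrans.naturality_apply (phi j g'' j' g' hj F).hom
    (EtFound.bcSquare hp.w V.unop).op _).symm
  refine Eq.trans ?_ (congrArg _ (phi_unit j g'' j' g' hj F ((EtCoh.bc p).obj V.unop)
    (((shriekShComp j p).hom.app F).hom.app V s).1)).symm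
  refine Subtype.ext ?_
  show ((EtCoh.pull g').obj F).obj.map (bcIso j' p' ((EtCoh.bc g).obj V.unop)).hom.op
      ((toPush (j ≫ p) g (j' ≫ p') g' (hj.paste_vert hp).w F).hom.app V s) =
    ((EtCoh.pull g').obj F).obj.map ((EtCoh.bc j').map (EtFound.bcSquare hp.w V.unop)).op
      ((toPush j g'' j' g' hj.w F).hom.app (op ((EtCoh.bc p).obj V.unop))
        (((shriekShComp j p).hom.app F).hom.app V s).1)
  refine (congrArg _ (toPush_app (j ≫ p) g (j' ≫ p') g' (hj.paste_vert hp).w F V.unop s)).trans ?_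
  refine Eq.trans ?_ (congrArg _ (toPush_app j g'' j' g' hj.w F ((EtCoh.bc p).obj V.unop)
    (((shriekShComp j p).hom.app F).hom.app V s).1)).symm
  show _ = ((EtCoh.pull g').obj F).obj.map ((EtCoh.bc j').map (EtFound.bcSquare hp.w V.unop)).op
    (((EtCoh.pull g').obj F).obj.map (EtFound.bcSquare hj.w ((EtCoh.bc p).obj V.unop)).op
      (((EtCoh.pullPushAdj g').unit.app F).hom.app _ (F.obj.map (bcIso j p V.unop).hom.op s.1)))
  refine Eq.trans ?_ (congrArg _ (congrArg _
    (NatTrans.naturality_apply ((EtCoh.pullPushAdj g').unit.app F).hom (bcIso j p V.unop).hom.op s.1))).symm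
  show _ = ((EtCoh.pull g').obj F).obj.map _ (((EtCoh.pull g').obj F).obj.map _
    (((EtCoh.pull g').obj F).obj.map ((EtCoh.bc g').map (bcIso j p V.unop).hom).op _))
  rw [map_map, map_map, map_map]
  exact congrArg (fun a => ((EtCoh.pull g').obj F).obj.map (Quiver.Hom.op a) _)
    ((bcSquare_comp hj.w hp.w (hj.paste_vert hp).w V.unop).symm.trans (Category.assoc _ _ _).symm)

theorem isIso_phi_comp (hj : IsPullback g' j' j g'') (hp : IsPullback g'' p' p g) (F : EtCoh.Ab X)
    [IsIso (phi j g'' j' g' hj F)] [IsIso (phi p g p' g'' hp ((shriekSh j).obj F))] :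
    IsIso (phi (j ≫ p) g (j' ≫ p') g' (hj.paste_vert hp) F) := by
  haveI : IsIso (phi (j ≫ p) g (j' ≫ p') g' (hj.paste_vert hp) F ≫
      (shriekShComp j' p').hom.app ((EtCoh.pull g').obj F)) := by
    rw [phi_comp hj hp]; infer_instance
  exact IsIso.of_isIso_comp_right _ ((shriekShComp j' p').hom.app ((EtCoh.pull g').obj F))

theorem isIso_phi_right (hj : IsPullback g' j' j g'') (hp : IsPullback g'' p' p g) (F : EtCoh.Ab X)
    [IsIso (phi (j ≫ p) g (j' ≫ p') g' (hj.paste_vert hp) F)] [IsIso (phi j g'' j' g' hj F)] :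
    IsIso (phi p g p' g'' hp ((shriekSh j).obj F)) := by
  haveI : IsIso ((EtCoh.pull g).map ((shriekShComp j p).hom.app F) ≫
      (phi p g p' g'' hp ((shriekSh j).obj F) ≫ (shriekSh p').map (phi j g'' j' g' hj F))) := by
    rw [← phi_comp hj hp]; infer_instance
  haveI := IsIso.of_isIso_comp_left ((EtCoh.pull g).map ((shriekShComp j p).hom.app F))
    (phi p g p' g'' hp ((shriekSh j).obj F) ≫ (shriekSh p').map (phi j g'' j' g' hj F))
  exact IsIso.of_isIso_comp_right _ ((shriekSh p').map (phi j g'' j' g' hj F))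

end ShriekLib.BC
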