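import Groth.Agent.ShriekLib.BC.Basic
import Groth.Agent.EtFound.PullStalk

/-!
# Sections supported in an open subscheme
-/

universe u

open CategoryTheory CategoryTheory.Limits AlgebraicGeometry Opposite

namespace ShriekLib.BC

set_option backward.isDefEq.respectTransparency false
set_option backward.isDefEq.respectTransparency.types false
set_option linter.unusedSectionVars false
set_option linter.style.haveILetI false

open Groth.Agent

variable {U X : Scheme.{u}} (j : U ⟶ X) [IsOpenImmersion j] [EtShriek.JCont j] (F : EtCoh.Ab X)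

/-- `j_! F|_U ⟶ F` -/
noncomputable def openCounit : (shriekSh j).obj ((EtShriek.restrAlong j).obj F) ⟶ F :=
  haveI := isIso_toShriek_app j ((EtShriek.restrAlong j).obj F)
  inv ((toShriek j).app ((EtShriek.restrAlong j).obj F)) ≫ (EtShriek.extZeroAdj j).counit.app F

theorem openCounit_extSec (W : U.Etale) (s : EtCoh.sect ((EtShriek.restrAlong j).obj F) W) :
    (openCounit j F).hom.app (op ((EtShriek.compEtale j).obj W))
      (⟨extSec j _ W s, extSec_mem j _ W s⟩ :
        EtShriek.shriekSubgroup j ((EtShriek.restrAlong j).obj F) ((EtShriek.compEtale j).obj W)) = s := by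
  haveI := isIso_toShriek_app j ((EtShriek.restrAlong j).obj F)
  have h1 := congr(($((EtShriek.extZeroAdj j).right_triangle_components F)).hom.app (op W) s)
  have e : (toShriek j).app ((EtShriek.restrAlong j).obj F) ≫ openCounit j F =
      (EtShriek.extZeroAdj j).counit.app F := IsIso.hom_inv_id_assoc _ _
  refine (congrArg _ (toShriek_unit j _ W s).symm).trans ?_
  refine Eq.trans ?_ h1
  exact congr(($e).hom.app (op ((EtShriek.compEtale j).obj W))
    (((EtShriek.extZeroAdj j).unit.app ((EtShriek.restrAlong j).obj F)).hom.app (op W) s))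

theorem bijective_openCounit_comp (W : U.Etale) :
    Function.Bijective ((openCounit j F).hom.app (op ((EtShriek.compEtale j).obj W))) := by
  let H := (EtShriek.restrAlong j).obj F
  have hsur : Set.range (graph j W).left.base = Set.univ := by
    haveI : Mono (EtShriek.prV j ((EtShriek.compEtale j).obj W)) :=
      inferInstanceAs (Mono (pullback.fst ((EtShriek.compEtale j).obj W).hom j))
    haveI : IsSplitEpi (EtShriek.prV j ((EtShriek.compEtale j).obj W)) := ⟨⟨⟨_, graph_fst j W⟩⟩⟩
    haveI : IsIso (EtShriek.prV j ((EtShriek.compEtale j).obj W)) := isIso_of_mono_of_isSplitEpi _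
    refine Set.eq_univ_of_forall fun x => ⟨(EtShriek.prV j ((EtShriek.compEtale j).obj W)).base x, ?_⟩
    have e : EtShriek.prV j ((EtShriek.compEtale j).obj W) ≫ (graph j W).left = 𝟙 _ := by
      rw [← cancel_mono (EtShriek.prV j ((EtShriek.compEtale j).obj W)), Category.assoc, graph_fst]
      exact (Category.comp_id _).trans (Category.id_comp _).symm
    exact (Scheme.Hom.comp_apply _ _ _).symm.trans ((congrArg (fun q => q.base x) e).trans rfl)
  have hext : ∀ t : EtShriek.shriekSubgroup j H ((EtShriek.compEtale j).obj W),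
      t = ⟨extSec j H W (H.obj.map (graph j W).op t.1), extSec_mem j H W _⟩ := fun t =>
    Subtype.ext (isExt_unique j ⟨rfl, by rw [hsur]; exact Set.subset_univ _⟩ (isExt_extSec j H W _))
  refine ⟨fun a b hab => ?_, fun s => ⟨_, openCounit_extSec j F W s⟩⟩
  have ha := openCounit_extSec j F W (H.obj.map (graph j W).op (Subtype.val a))
  have hb := openCounit_extSec j F W (H.obj.map (graph j W).op (Subtype.val b))
  rw [← hext a] at ha
  rw [← hext b] at hb
  have e : H.obj.map (graph j W).op (Subtype.val a) = H.obj.map (graph j W).op (Subtype.val b) :=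
    ha.symm.trans (hab.trans hb)
  refine Subtype.ext ?_
  calc Subtype.val a = extSec j H W (H.obj.map (graph j W).op (Subtype.val a)) := congrArg Subtype.val (hext a)
    _ = extSec j H W (H.obj.map (graph j W).op (Subtype.val b)) := congrArg (extSec j H W) e
    _ = Subtype.val b := (congrArg Subtype.val (hext b)).symm

theorem bijective_openCounit (V : X.Etale) (hV : Set.range V.hom.base ⊆ Set.range j.base) :
    Function.Bijective ((openCounit j F).hom.app (op V)) := by
  haveI : AlgebraicGeometry.Etale V.hom := V.prop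
  let l := IsOpenImmersion.lift j V.hom hV
  have hl : l ≫ j = V.hom := IsOpenImmersion.lift_fac _ _ _
  haveI : AlgebraicGeometry.Etale (l ≫ j) := hl ▸ inferInstance
  haveI : AlgebraicGeometry.Etale l :=
    MorphismProperty.of_postcomp @AlgebraicGeometry.Etale (W' := @AlgebraicGeometry.Etale) l j inferInstance inferInstance
  let e : (EtShriek.compEtale j).obj (Scheme.Etale.mk l) ≅ V :=
    MorphismProperty.Over.isoMk (Iso.refl _) ((Category.id_comp _).trans hl.symm)
  have n := (openCounit j F).hom.naturality e.hom.op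
  haveI : IsIso ((openCounit j F).hom.app (op ((EtShriek.compEtale j).obj (Scheme.Etale.mk l)))) :=
    (ConcreteCategory.isIso_iff_bijective _).2 (bijective_openCounit_comp j F _)
  haveI : IsIso ((openCounit j F).hom.app (op V) ≫ F.obj.map e.hom.op) := by
    rw [← n]; infer_instance
  haveI : IsIso ((openCounit j F).hom.app (op V)) := IsIso.of_isIso_comp_right _ (F.obj.map e.hom.op)
  exact (ConcreteCategory.isIso_iff_bijective _).1 inferInstance

/-- the part of an etale `X`-scheme over `U` -/
noncomputable abbrev overOpen (V : X.Etale) : X.Etale := EtFound.restrictEtale V (V.hom ⁻¹ᵁ j.opensRange)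

theorem range_overOpen (V : X.Etale) : Set.range (overOpen j V).hom.base ⊆ Set.range j.base := by
  rintro _ ⟨x, rfl⟩
  have h : V.hom.base ((V.hom ⁻¹ᵁ j.opensRange).ι.base x) ∈ Set.range j.base := x.2
  exact (Scheme.Hom.comp_apply _ _ _).symm ▸ h

theorem mono_openCounit : Mono (openCounit j F) := by
  have hinj : ∀ V : X.Etale, Function.Injective ((openCounit j F).hom.app (op V)) := fun V =>
    (injective_iff_map_eq_zero _).2 fun t ht => by
      let φ := EtFound.restrictEtaleHom V (V.hom ⁻¹ᵁ j.opensRange)
      have h0 : ((shriekSh j).obj ((EtShriek.restrAlong j).obj F)).obj.map φ.op t = 0 :=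
        (bijective_openCounit j F (overOpen j V) (range_overOpen j V)).1
          ((NatTrans.naturality_apply (openCounit j F).hom φ.op t).trans
            (((congrArg _ ht).trans (map_zero _)).trans (map_zero _).symm))
      refine Subtype.ext (eq_zero_of_sectSupp_empty (Set.eq_empty_iff_forall_notMem.2 fun x hx => ?_))
      have hxU : V.hom.base ((EtShriek.prV j V).base x) ∈ Set.range j.base :=
        ⟨(pullback.snd V.hom j).base x, (Scheme.Hom.comp_apply _ _ _).symm.trans
          ((congrArg (fun q : pullback V.hom j ⟶ X => q.base x) pullback.condition.symm).trans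
            (Scheme.Hom.comp_apply _ _ _))⟩
      obtain ⟨z, hz, -⟩ := Scheme.exists_preimage_of_isPullback (isPullback_prV j φ) x
        (⟨_, hxU⟩ : (V.hom ⁻¹ᵁ j.opensRange).toScheme) rfl
      have hmem : z ∈ EtShriek.sectSupp _ _ (((EtShriek.restrAlong j).obj F).obj.map ((EtCoh.bc j).map φ).op
          (Subtype.val t)) := by
        rw [sectSupp_map, Set.mem_preimage, hz]
        exact hx
      rw [show ((EtShriek.restrAlong j).obj F).obj.map ((EtCoh.bc j).map φ).op (Subtype.val t) = 0 from
        congrArg Subtype.val h0, sectSupp_zero] at hmem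
      exact hmem
  have : ∀ V, Mono ((openCounit j F).hom.app V) := fun V =>
    (AddCommGrpCat.mono_iff_injective _).2 (hinj V.unop)
  have := NatTrans.mono_of_mono_app (openCounit j F).hom
  exact (sheafToPresheaf _ _).mono_of_mono_map this

theorem surjective_stalk_openCounit {Ω : Type u} [Field Ω] [IsSepClosed Ω] (ξ : Spec (CommRingCat.of Ω) ⟶ X)
    (hξ : ξ.base default ∈ Set.range j.base) : Function.Surjective ((EtCoh.stalk ξ).map (openCounit j F)) := by
  intro y
  obtain ⟨V, v, s, rfl⟩ := (Scheme.pointSmallEtale ξ).toPresheafFiber_jointly_surjective y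
  have hv : V.hom.base (EtFound.ptOf v) ∈ Set.range j.base :=
    Set.mem_of_eq_of_mem ((Scheme.Hom.comp_apply _ _ _).symm.trans
      (congrArg (fun q : Spec (CommRingCat.of Ω) ⟶ X => q.base default) (CategoryTheory.Over.w v))) hξ
  obtain ⟨w, hw, -⟩ := EtFound.exists_lift_point (EtFound.restrictEtaleHom V (V.hom ⁻¹ᵁ j.opensRange)) v
    ⟨EtFound.ptOf v, hv⟩ rfl
  obtain ⟨t, ht⟩ := (bijective_openCounit j F (overOpen j V) (range_overOpen j V)).2
    (F.obj.map (EtFound.restrictEtaleHom V (V.hom ⁻¹ᵁ j.opensRange)).op s)
  refine ⟨(Scheme.pointSmallEtale ξ).toPresheafFiber (overOpen j V) w ((shriekSh j).obj ((EtShriek.restrAlong j).obj F)).obj t, ?_⟩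
  refine ((Scheme.pointSmallEtale ξ).toPresheafFiber_naturality_apply (openCounit j F).hom _ w t).trans ?_
  rw [ht, (Scheme.pointSmallEtale ξ).toPresheafFiber_w_apply, hw]
  rfl

/-- a section with all germs in the image of a monomorphism lifts -/
theorem exists_lift_of_germs {G H : EtCoh.Ab X} (a : G ⟶ H) [Mono a] (T : X.Etale) (s : EtCoh.sect H T)
    (hs : ∀ (Ω : Type u) [Field Ω] [IsAlgClosed Ω] (ξ : Spec (CommRingCat.of Ω) ⟶ X)
      (t : (Scheme.pointSmallEtale ξ).fiber.obj T),
      ∃ y, (EtCoh.stalk ξ).map a y = (Scheme.pointSmallEtale ξ).toPresheafFiber T t H.obj s) :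
    ∃ r, a.hom.app (op T) r = s := by
  let S := ShortComplex.mk a (cokernel.π a) (cokernel.condition a)
  have hS : S.Exact := S.exact_of_g_is_cokernel (cokernelIsCokernel a)
  have h0 : (cokernel.π a).hom.app (op T) s = 0 := by
    refine eq_zero_of_sectSupp_empty ?_
    rw [sectSupp_eq_germSupp]
    refine Set.eq_empty_iff_forall_notMem.2 fun q hq => ?_
    obtain ⟨k, _, _, ξ, t, rfl⟩ := EtFound.exists_algClosed_point T q
    obtain ⟨y, hy⟩ := hs k ξ t
    refine (EtFound.mem_germSupp_iff _ t).1 hq ?_
    refine ((Scheme.pointSmallEtale ξ).toPresheafFiber_naturality_apply (cokernel.π a).hom T t s).symm.trans ?_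
    refine (congrArg ((EtCoh.stalk ξ).map (cokernel.π a)) hy.symm).trans ?_
    rw [← ConcreteCategory.comp_apply, ← Functor.map_comp, cokernel.condition, Functor.map_zero]
    rfl
  let ev := sheafToPresheaf X.smallEtaleTopology AddCommGrpCat.{u + 1} ⋙ (evaluation _ _).obj (op T)
  haveI : ev.Additive := { map_add := fun {_ _ _ _} => rfl }
  haveI : PreservesFiniteLimits ev := inferInstanceAs (PreservesFiniteLimits
    (sheafToPresheaf X.smallEtaleTopology AddCommGrpCat.{u + 1} ⋙ (evaluation _ _).obj (op T)))
  haveI : Mono S.f := inferInstanceAs (Mono a)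
  obtain ⟨r, hr⟩ := (ShortComplex.ab_exact_iff _).1 (hS.map_of_mono_of_preservesKernel ev inferInstance inferInstance) s h0
  exact ⟨r, hr⟩

end ShriekLib.BC
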