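import Groth.Agent.ShriekLib.BC.Lqf
import Groth.Agent.ShriekLib.BC.Comp
import Groth.Agent.ShriekLib.BC.Open
import Groth.Agent.ShriekLib.Compact
import Groth.Agent.EtPBC0.BaseChangeAb
import Groth.Agent.NagataLib.General

/-!
# The base change map for sections with proper support is an isomorphism
-/

universe u

open CategoryTheory CategoryTheory.Limits AlgebraicGeometry Opposite

namespace ShriekLib.BC

set_option backward.isDefEq.respectTransparency false
set_option backward.isDefEq.respectTransparency.types false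
set_option linter.unusedSectionVars false
set_option linter.style.haveILetI false

open Groth.Agent

variable {X Y Z : Scheme.{u}}

/-- base change holds for `f_!` -/
def BCIso (f : X ⟶ Y) [LocallyOfFiniteType f] : Prop :=
  ∀ ⦃X' Y' : Scheme.{u}⦄ (g : Y' ⟶ Y) (f' : X' ⟶ Y') (g' : X' ⟶ X) [LocallyOfFiniteType f']
    (h : IsPullback g' f' f g) (F : EtCoh.Ab X), IsIso (phi f g f' g' h F)

theorem BCIso.congr {f₁ f₂ : X ⟶ Y} (e : f₁ = f₂) [LocallyOfFiniteType f₁] [LocallyOfFiniteType f₂]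
    (h : BCIso f₁) : BCIso f₂ := by
  subst e
  exact h

theorem bcIso_lqf (f : X ⟶ Y) [IsSeparated f] [LocallyOfFiniteType f] [LocallyQuasiFinite f] : BCIso f := by
  intro X' Y' g f' g' _ h F
  haveI : IsSeparated f' := MorphismProperty.of_isPullback h inferInstance
  haveI : LocallyQuasiFinite f' := MorphismProperty.of_isPullback h inferInstance
  exact isIso_phi_lqf f g f' g' h F

theorem bcIso_proper (f : X ⟶ Y) [IsProper f] : BCIso f := by
  intro X' Y' g f' g' _ h F
  haveI : IsProper f' := MorphismProperty.of_isPullback h inferInstance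
  haveI := isIso_shriekShι_of_isProper f' ((EtCoh.pull g').obj F)
  haveI := isIso_shriekShι_of_isProper f F
  haveI := EtPBC0.isIso_baseChange0 f g f' g' h F
  haveI : IsIso (phi f g f' g' h F ≫ (shriekShι f').app ((EtCoh.pull g').obj F)) := by
    rw [phi_ι]; infer_instance
  exact IsIso.of_isIso_comp_right _ ((shriekShι f').app ((EtCoh.pull g').obj F))

theorem bcIso_comp (j : X ⟶ Y) (p : Y ⟶ Z) [IsSeparated j] [LocallyOfFiniteType j] [IsSeparated p]
    [LocallyOfFiniteType p] (hj : BCIso j) (hp : BCIso p) : BCIso (j ≫ p) := by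
  intro X' Z' g f' g' _ h F
  let c := IsPullback.of_hasPullback p g
  have w : (g' ≫ j) ≫ p = f' ≫ g := by rw [Category.assoc]; exact h.w
  obtain ⟨j', rfl, e⟩ : ∃ j' : X' ⟶ pullback p g, j' ≫ pullback.snd p g = f' ∧
      g' ≫ j = j' ≫ pullback.fst p g :=
    ⟨c.lift (g' ≫ j) f' w, c.lift_snd _ _ _, (c.lift_fst _ _ _).symm⟩
  have sq : IsPullback g' j' j (pullback.fst p g) := IsPullback.of_bot h e c
  haveI : LocallyOfFiniteType j' := MorphismProperty.of_isPullback sq inferInstance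
  haveI := hj (pullback.fst p g) j' g' sq F
  haveI := hp g (pullback.snd p g) (pullback.fst p g) c ((shriekSh j).obj F)
  exact isIso_phi_comp sq c F

theorem bcIso_of_isAffine (f : X ⟶ Y) [IsSeparated f] [LocallyOfFiniteType f] [QuasiCompact f] [IsAffine Y] :
    BCIso f := by
  obtain ⟨Xb, j, p, hj, -, hp, rfl⟩ := NagataLib.exists_compactification f
  haveI := hj
  haveI := hp
  exact bcIso_comp j p (bcIso_lqf j) (bcIso_proper p)

/-- a compact set in an open set lies in a compact open in between -/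
theorem exists_compact_opens {K : Set X} (hK : IsCompact K) (O : X.Opens) (hKO : K ⊆ O) :
    ∃ U : X.Opens, IsCompact (U : Set X) ∧ U ≤ O ∧ K ⊆ U := by
  refine hK.induction_on (p := fun s => ∃ U : X.Opens, IsCompact (U : Set X) ∧ U ≤ O ∧ s ⊆ U)
    ⟨⊥, by simp, bot_le, by simp⟩ (fun s t hst ⟨U, h1, h2, h3⟩ => ⟨U, h1, h2, hst.trans h3⟩)
    (fun s t ⟨U, h1, h2, h3⟩ ⟨U', h1', h2', h3'⟩ =>
      ⟨U ⊔ U', by simpa using h1.union h1', sup_le h2 h2', by
        simpa using Set.union_subset_union h3 h3'⟩) fun x hx => ?_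
  obtain ⟨_, ⟨W, hW, rfl⟩, hxW, hWO⟩ := X.isBasis_affineOpens.exists_subset_of_mem_open (hKO hx) O.isOpen
  exact ⟨W, mem_nhdsWithin_of_mem_nhds (W.isOpen.mem_nhds hxW), W, hW.isCompact, hWO, subset_rfl⟩

theorem surjective_stalk_pull_map {X' : Scheme.{u}} (g' : X' ⟶ X) {G F : EtCoh.Ab X} (α : G ⟶ F) {k : Type u}
    [Field k] [IsSepClosed k] (ξ : Spec (CommRingCat.of k) ⟶ X')
    (h : Function.Surjective ((EtCoh.stalk (ξ ≫ g')).map α)) :
    Function.Surjective ((EtCoh.stalk ξ).map ((EtCoh.pull g').map α)) := by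
  let e : EtCoh.pull g' ⋙ EtCoh.stalk ξ ≅ EtCoh.stalk (ξ ≫ g') := EtFound.sheafFiberPullIso g' ξ
  intro y
  obtain ⟨z, hz⟩ := h (e.hom.app F y)
  refine ⟨e.inv.app G z, ?_⟩
  have n := ConcreteCategory.congr_hom (e.inv.naturality α) z
  rw [ConcreteCategory.comp_apply, ConcreteCategory.comp_apply, hz] at n
  refine n.symm.trans ?_
  exact (ConcreteCategory.comp_apply _ _ _).symm.trans
    ((ConcreteCategory.congr_hom (e.hom_inv_id_app F) y).trans (ConcreteCategory.id_apply _))

/-- sections supported over an open subscheme come from the extension by zero -/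
theorem exists_lift_open {U X' : Scheme.{u}} (g' : X' ⟶ X) (j : U ⟶ X) [IsOpenImmersion j] [EtShriek.JCont j]
    (F : EtCoh.Ab X) (T : X'.Etale) (s : EtCoh.sect ((EtCoh.pull g').obj F) T)
    (hs : ∀ x ∈ EtShriek.sectSupp _ T s, (T.hom ≫ g').base x ∈ Set.range j.base) :
    ∃ r, ((EtCoh.pull g').map (openCounit j F)).hom.app (op T) r = s := by
  haveI := mono_openCounit j F
  haveI := EtFound.pull_preservesFiniteLimits g'
  refine exists_lift_of_germs ((EtCoh.pull g').map (openCounit j F)) T s fun k _ _ ξ t => ?_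
  by_cases ht : EtFound.ptOf t ∈ EtShriek.sectSupp ((EtCoh.pull g').obj F) T s
  · have hξ : (ξ ≫ g').base default ∈ Set.range j.base := by
      refine Set.mem_of_eq_of_mem ?_ (hs _ ht)
      refine Eq.trans ?_ (Scheme.Hom.comp_apply _ _ _)
      exact congrArg (fun p : Spec (CommRingCat.of k) ⟶ X => p.base default)
        ((congrArg (· ≫ g') (CategoryTheory.Over.w t).symm).trans (Category.assoc _ _ _))
    exact surjective_stalk_pull_map g' (openCounit j F) ξ (surjective_stalk_openCounit j F (ξ ≫ g') hξ) _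
  · refine ⟨0, (map_zero _).trans ?_⟩
    rw [sectSupp_eq_germSupp, EtFound.mem_germSupp_iff, not_not] at ht
    exact ht.symm

theorem isIso_phi (f : X ⟶ Y) [IsSeparated f] [LocallyOfFiniteType f] : BCIso f := by
  intro X' Y' g f' g' _ h F
  refine isIso_phi_of_surjective f g f' g' h F fun Ω _ _ η y => ?_
  obtain ⟨W₀, w₀, σ₀, rfl⟩ := (Scheme.pointSmallEtale η).toPresheafFiber_jointly_surjective y
  -- an affine open of the base
  obtain ⟨_, ⟨S₀, hS₀, rfl⟩, hyS, -⟩ := Y.isBasis_affineOpens.exists_subset_of_mem_open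
    (Set.mem_univ (g.base (W₀.hom.base (EtFound.ptOf w₀)))) isOpen_univ
  obtain ⟨_, ⟨O, hO, rfl⟩, hwO, hOS⟩ := W₀.left.isBasis_affineOpens.exists_subset_of_mem_open
    (show EtFound.ptOf w₀ ∈ (W₀.hom ⁻¹ᵁ (g ⁻¹ᵁ S₀) : W₀.left.Opens) from hyS) (W₀.hom ⁻¹ᵁ (g ⁻¹ᵁ S₀)).isOpen
  obtain ⟨w, hw, -⟩ := EtFound.exists_lift_point (EtFound.restrictEtaleHom W₀ O) w₀ ⟨EtFound.ptOf w₀, hwO⟩ rfl
  let W := EtFound.restrictEtale W₀ O
  haveI : IsAffine W.left := hO
  let σ : EtShriek.shriekSubgroup f' ((EtCoh.pull g').obj F) W :=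
    ((shriekSh f').obj ((EtCoh.pull g').obj F)).obj.map (EtFound.restrictEtaleHom W₀ O).op σ₀
  suffices H : ∃ x, (EtCoh.stalk η).map (phi f g f' g' h F) x =
      (Scheme.pointSmallEtale η).toPresheafFiber W w ((shriekSh f').obj ((EtCoh.pull g').obj F)).obj σ by
    obtain ⟨x, hx⟩ := H
    refine ⟨x, hx.trans ?_⟩
    exact ((Scheme.pointSmallEtale η).toPresheafFiber_w_apply _ w _ σ₀).trans
      (congrArg (fun q => (Scheme.pointSmallEtale η).toPresheafFiber W₀ q ((shriekSh f').obj ((EtCoh.pull g').obj F)).obj σ₀) hw)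
  obtain ⟨hC, hP⟩ := (mem_shriekSubgroup_iff f' _ W σ.1).1 σ.2
  clear_value σ
  -- a quasi-compact open containing the image of the support
  let T := (EtCoh.bc f').obj W
  let i := (Scheme.IdealSheafData.vanishingIdeal ⟨_, hC⟩).subschemeι
  haveI : IsProper (i ≫ EtShriek.prV f' W) := hP
  haveI : CompactSpace W.left := inferInstance
  haveI := QuasiCompact.compactSpace_of_compactSpace (i ≫ EtShriek.prV f' W)
  have hKc : IsCompact (EtShriek.sectSupp ((EtCoh.pull g').obj F) T σ.1) := by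
    rw [← QCoh.range_vanishing hC]
    exact isCompact_range i.continuous
  let q : T.left ⟶ X := T.hom ≫ g'
  have hqS : q.base '' EtShriek.sectSupp ((EtCoh.pull g').obj F) T σ.1 ⊆ (f ⁻¹ᵁ S₀ : X.Opens) := by
    rintro _ ⟨x, -, rfl⟩
    have e : q ≫ f = EtShriek.prV f' W ≫ (EtFound.restrictEtaleHom W₀ O).left ≫ W₀.hom ≫ g := by
      show (pullback.snd W.hom f' ≫ g') ≫ f = pullback.fst W.hom f' ≫ (Scheme.Opens.ι O) ≫ W₀.hom ≫ g
      rw [Category.assoc, h.w, ← pullback.condition_assoc]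
      exact congrArg (pullback.fst W.hom f' ≫ ·) (Category.assoc _ _ _)
    have hmem : (W₀.hom ≫ g).base ((Scheme.Opens.ι O).base ((EtShriek.prV f' W).base x)) ∈ S₀ := by
      rw [Scheme.Hom.comp_apply]
      exact hOS ((EtShriek.prV f' W).base x).2
    show f.base (q.base x) ∈ S₀
    rw [← Scheme.Hom.comp_apply, e, Scheme.Hom.comp_apply, Scheme.Hom.comp_apply]
    exact hmem
  obtain ⟨U, hUc, hUS, hKU⟩ := exists_compact_opens (hKc.image q.continuous) _ hqS
  let jU : U.toScheme ⟶ X := U.ι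
  haveI : CompactSpace U.toScheme := isCompact_iff_compactSpace.1 hUc
  -- `U ⟶ Y` is compactifiable
  have hrange : Set.range (jU ≫ f).base ⊆ Set.range (Scheme.Opens.ι S₀).base := by
    rintro _ ⟨x, rfl⟩
    rw [Scheme.Hom.comp_apply, Scheme.Opens.range_ι]
    exact hUS x.2
  let f₀ := IsOpenImmersion.lift (Scheme.Opens.ι S₀) (jU ≫ f) hrange
  have hf₀ : f₀ ≫ (Scheme.Opens.ι S₀) = jU ≫ f := IsOpenImmersion.lift_fac _ _ _
  haveI : IsAffine (Scheme.Opens.toScheme S₀) := hS₀
  haveI : IsSeparated (f₀ ≫ (Scheme.Opens.ι S₀)) := by rw [hf₀]; infer_instance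
  haveI : IsSeparated f₀ := IsSeparated.of_comp f₀ (Scheme.Opens.ι S₀)
  haveI : LocallyOfFiniteType (f₀ ≫ (Scheme.Opens.ι S₀)) := by rw [hf₀]; infer_instance
  haveI : LocallyOfFiniteType f₀ := locallyOfFiniteType_of_comp f₀ (Scheme.Opens.ι S₀)
  haveI : QuasiCompact f₀ := (HasAffineProperty.iff_of_isAffine (P := @QuasiCompact)).2 inferInstance
  have hcomp : BCIso (jU ≫ f) :=
    BCIso.congr hf₀ (bcIso_comp f₀ (Scheme.Opens.ι S₀) (bcIso_of_isAffine f₀) (bcIso_lqf (Scheme.Opens.ι S₀)))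
  -- base change for extensions by zero from `U`
  let H := (EtShriek.restrAlong jU).obj F
  let G := (shriekSh jU).obj H
  let α : G ⟶ F := openCounit jU F
  let hjU := IsPullback.of_hasPullback jU g'
  haveI : LocallyOfFiniteType (pullback.snd jU g') := MorphismProperty.of_isPullback hjU inferInstance
  haveI : IsSeparated f' := MorphismProperty.of_isPullback h inferInstance
  haveI : LocallyOfFiniteType (pullback.snd jU g' ≫ f') := inferInstance
  haveI := hcomp g (pullback.snd jU g' ≫ f') (pullback.fst jU g') (hjU.paste_vert h) H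
  haveI := (bcIso_lqf jU) g' (pullback.snd jU g') (pullback.fst jU g') hjU H
  haveI : IsIso (phi f g f' g' h G) := isIso_phi_right hjU h H
  haveI : Mono α := mono_openCounit jU F
  haveI := EtFound.pull_preservesFiniteLimits g'
  let α' := (EtCoh.pull g').map α
  haveI : Mono α' := inferInstanceAs (Mono ((EtCoh.pull g').map α))
  obtain ⟨r, hr⟩ : ∃ r, α'.hom.app (op T) r = σ.1 :=
    exists_lift_open g' jU F T σ.1 fun x hx => Set.mem_of_eq_of_mem rfl (U.range_ι.ge (hKU ⟨x, hx, rfl⟩))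
  have hmem : r ∈ EtShriek.shriekSubgroup f' ((EtCoh.pull g').obj G) W := by
    rw [mem_shriekSubgroup_iff, ← sectSupp_app_of_mono α', hr]
    exact ⟨hC, hP⟩
  let yG := (Scheme.pointSmallEtale η).toPresheafFiber W w ((shriekSh f').obj ((EtCoh.pull g').obj G)).obj ⟨r, hmem⟩
  obtain ⟨xG, hxG⟩ := ((ConcreteCategory.isIso_iff_bijective ((EtCoh.stalk η).map (phi f g f' g' h G))).1
    inferInstance).2 yG
  refine ⟨(EtCoh.stalk η).map ((EtCoh.pull g).map ((shriekSh f).map α)) xG, ?_⟩
  refine (ConcreteCategory.comp_apply _ _ _).symm.trans ?_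
  rw [← Functor.map_comp, phi_naturality, Functor.map_comp, ConcreteCategory.comp_apply, hxG]
  refine ((Scheme.pointSmallEtale η).toPresheafFiber_naturality_apply ((shriekSh f').map α').hom W w _).trans ?_
  exact congrArg _ (Subtype.ext hr)

end ShriekLib.BC
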