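import Groth.Agent.ShriekLib.BC.Main
import Groth.Agent.EtFound.SepClosedField

/-!
# Global sections with proper support over a point, and stalks of `f_!`
-/

universe u

open CategoryTheory CategoryTheory.Limits AlgebraicGeometry Opposite

namespace ShriekLib.BC

set_option backward.isDefEq.respectTransparency false
set_option backward.isDefEq.respectTransparency.types false
set_option linter.unusedSectionVars false
set_option linter.style.haveILetI false

open Groth.Agent

variable {X : Scheme.{u}} {k : Type u} [Field k] (p : X ⟶ Spec (CommRingCat.of k)) [LocallyOfFiniteType p]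

/-- `X` as the base change of the base -/
noncomputable def topBc : EtCoh.top X ≅ (EtCoh.bc p).obj (EtCoh.top (Spec (CommRingCat.of k))) :=
  MorphismProperty.Over.isoMk (asIso (pullback.snd (𝟙 (Spec (CommRingCat.of k))) p)).symm
    (IsIso.inv_hom_id (pullback.snd (𝟙 (Spec (CommRingCat.of k))) p))

theorem mem_H0c_iff (F : EtCoh.Ab X) (t : EtCoh.sect F (EtCoh.top X)) :
    t ∈ EtShriek.H0c p F ↔ ClSub.IsProperOver p (EtShriek.sectSupp F (EtCoh.top X) t) := by
  let H : AddSubgroup (EtCoh.sect F (EtCoh.top X)) :=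
    { carrier := {t | ClSub.IsProperOver p (EtShriek.sectSupp F (EtCoh.top X) t)}
      zero_mem' := by
        show ClSub.IsProperOver _ _
        rw [sectSupp_zero]
        exact QCoh.isProperOver_empty
      add_mem' := fun {a b} ha hb => QCoh.IsProperOver.subset (QCoh.IsProperOver.union ha hb)
        (isClosed_sectSupp _ _ _) (sectSupp_add _ _ a b)
      neg_mem' := fun {a} ha => by
        show ClSub.IsProperOver _ _
        rw [sectSupp_neg]
        exact ha }
  have hH : EtShriek.H0c p F = H :=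
    le_antisymm ((AddSubgroup.closure_le H).2 fun t ⟨Z, hZ, hP⟩ =>
        QCoh.IsProperOver.subset hP (isClosed_sectSupp _ _ _) hZ)
      fun t ht => AddSubgroup.subset_closure ⟨_, le_rfl, ht⟩
  rw [hH]
  rfl

theorem mem_shriek_top_iff (F : EtCoh.Ab X)
    (s : EtCoh.sect F ((EtCoh.bc p).obj (EtCoh.top (Spec (CommRingCat.of k))))) :
    s ∈ EtShriek.shriekSubgroup p F (EtCoh.top (Spec (CommRingCat.of k))) ↔
      F.obj.map (topBc p).hom.op s ∈ EtShriek.H0c p F := by
  let S := EtCoh.top (Spec (CommRingCat.of k))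
  let c := topBc p
  have hc : EtShriek.prV p S = c.inv.left ≫ p :=
    (Category.comp_id _).symm.trans pullback.condition
  haveI : IsIso c.inv.left := inferInstanceAs (IsIso (pullback.snd (𝟙 (Spec (CommRingCat.of k))) p))
  rw [mem_shriekSubgroup_iff, mem_H0c_iff]
  constructor
  · intro h
    rw [sectSupp_map]
    haveI : IsIso c.hom.left := inferInstanceAs (IsIso (inv (pullback.snd (𝟙 (Spec (CommRingCat.of k))) p)))
    refine QCoh.IsProperOver.preimage (f := c.hom.left) ?_ h
    rw [hc, ← Category.assoc]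
    exact (congrArg (fun q : EtCoh.top X ⟶ EtCoh.top X => q.left ≫ p) c.hom_inv_id).trans (Category.id_comp p)
  · intro h
    have := QCoh.IsProperOver.preimage (f := c.inv.left) hc.symm h
    rw [← sectSupp_map] at this
    rwa [map_map, Iso.inv_hom_id, op_id, F.obj.map_id] at this

/-- sections with compact support as sections of `p_!` -/
noncomputable def topEquiv (F : EtCoh.Ab X) :
    EtShriek.shriekSubgroup p F (EtCoh.top (Spec (CommRingCat.of k))) ≃+ EtShriek.H0c p F where
  toFun s := ⟨F.obj.map (topBc p).hom.op s.1, (mem_shriek_top_iff p F s.1).1 s.2⟩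
  invFun t := ⟨F.obj.map (topBc p).inv.op t.1, (mem_shriek_top_iff p F _).2 (by
    rw [map_map, Iso.hom_inv_id, op_id, F.obj.map_id]; exact t.2)⟩
  left_inv s := Subtype.ext (by
    show F.obj.map (topBc p).inv.op (F.obj.map (topBc p).hom.op s.1) = s.1
    rw [map_map, Iso.inv_hom_id, op_id, F.obj.map_id]; rfl)
  right_inv t := Subtype.ext (by
    show F.obj.map (topBc p).hom.op (F.obj.map (topBc p).inv.op t.1) = t.1
    rw [map_map, Iso.hom_inv_id, op_id, F.obj.map_id]; rfl)
  map_add' a b := Subtype.ext (map_add _ _ _)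

theorem nonempty_stalk_H0c {X Y : Scheme.{u}} (f : X ⟶ Y) [IsSeparated f] [LocallyOfFiniteType f]
    (F : EtCoh.Ab X) {Ω : Type u} [Field Ω] [IsSepClosed Ω] (η : Spec (CommRingCat.of Ω) ⟶ Y) :
    Nonempty ((EtCoh.stalk η).obj ((EtShriek.lowerShriek f).obj F) ≅
      AddCommGrpCat.of (EtShriek.H0c (pullback.snd f η) ((EtCoh.pull (pullback.fst f η)).obj F))) := by
  let f' := pullback.snd f η
  let g' := pullback.fst f η
  haveI := isIso_phi f η f' g' (IsPullback.of_hasPullback f η) F
  let k0 := 𝟙 (Spec (CommRingCat.of Ω))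
  let e1 : EtCoh.pull η ⋙ EtCoh.stalk k0 ≅ EtCoh.stalk (k0 ≫ η) := EtFound.sheafFiberPullIso η k0
  let e2 : EtCoh.stalk (k0 ≫ η) ≅ EtCoh.stalk η :=
    eqToIso (congrArg (fun q : Spec (CommRingCat.of Ω) ⟶ Y => EtCoh.stalk q) (Category.id_comp η))
  let G := (shriekSh f').obj ((EtCoh.pull g').obj F)
  let a : (EtCoh.stalk η).obj ((EtShriek.lowerShriek f).obj F) ≅ (EtCoh.stalk k0).obj G :=
    (EtCoh.stalk η).mapIso ((shriekShIso f).symm.app F) ≪≫ (e1 ≪≫ e2).symm.app ((shriekSh f).obj F) ≪≫
      (EtCoh.stalk k0).mapIso (asIso (phi f η f' g' (IsPullback.of_hasPullback f η) F))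
  let b := (EtFound.sectTopIso Ω AddCommGrpCat.{u + 1}).app G
  exact ⟨a ≪≫ b.symm ≪≫ (topEquiv f' ((EtCoh.pull g').obj F)).toAddCommGrpIso⟩

end ShriekLib.BC
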