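import Groth.Agent.ShriekLib.BC.ProperLqf

/-!
# `g_! R^q f'_* ≅ R^q f_* g'_!`
-/

universe u

open CategoryTheory CategoryTheory.Limits AlgebraicGeometry Opposite

attribute [local instance] HasDerivedCategory.standard

namespace ShriekLib.BC

set_option backward.isDefEq.respectTransparency false
set_option backward.isDefEq.respectTransparency.types false
set_option linter.unusedSectionVars false
set_option linter.style.haveILetI false
set_option maxHeartbeats 1000000

open Groth.Agent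

variable {X Y X' Y' : Scheme.{u}} (f : X ⟶ Y) (g : Y' ⟶ Y) (f' : X' ⟶ Y') (g' : X' ⟶ X)

theorem nonempty_shriekSh_congr {Z : Scheme.{u}} {a b : X' ⟶ Z} (e : a = b) [LocallyOfFiniteType a]
    [LocallyOfFiniteType b] : Nonempty (shriekSh a ≅ shriekSh b) := by
  subst e
  exact ⟨Iso.refl _⟩

/-- the degree zero isomorphism -/
theorem nonempty_shriek_push_iso (w : g' ≫ f = f' ≫ g) [IsProper f] [IsProper f'] [IsSeparated g]
    [LocallyOfFiniteType g] [IsSeparated g'] [LocallyOfFiniteType g'] :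
    Nonempty (shriekSh g' ⋙ EtCoh.push f ≅ EtCoh.push f' ⋙ shriekSh g) := by
  haveI : ∀ F, IsIso ((shriekShι f).app F) := isIso_shriekShι_of_isProper f
  haveI := NatIso.isIso_of_isIso_app (shriekShι f)
  haveI : ∀ F, IsIso ((shriekShι f').app F) := isIso_shriekShι_of_isProper f'
  haveI := NatIso.isIso_of_isIso_app (shriekShι f')
  obtain ⟨e⟩ := nonempty_shriekSh_congr w
  exact ⟨Functor.isoWhiskerLeft (shriekSh g') (asIso (shriekShι f)).symm ≪≫ (shriekShComp g' f).symm ≪≫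
    e ≪≫ shriekShComp f' g ≪≫ Functor.isoWhiskerRight (asIso (shriekShι f')) (shriekSh g)⟩

theorem nonempty_shriek_Rpush_iso (w : g' ≫ f = f' ≫ g) [IsProper f] [IsProper f'] [IsSeparated g]
    [LocallyOfFiniteType g] [LocallyQuasiFinite g] [IsSeparated g'] [LocallyOfFiniteType g'] [LocallyQuasiFinite g']
    (F : EtCoh.Ab X') (hF : EtCoh.IsTorsion F) (q : ℕ) :
    Nonempty ((shriekSh g).obj ((EtCoh.Rpush f' q).obj F) ≅ (EtCoh.Rpush f q).obj ((shriekSh g').obj F)) := by
  haveI := EtPBCq.hasRpushEt f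
  haveI := EtPBCq.hasRpushEt f'
  haveI := shriekSh_preservesFiniteColimits g
  haveI := shriekSh_preservesFiniteLimits g
  haveI := shriekSh_preservesFiniteColimits g'
  haveI := shriekSh_preservesFiniteLimits g'
  haveI : (EtCoh.push f').IsRightAdjoint := (EtCoh.pullPushAdj f').isRightAdjoint
  haveI : (EtCoh.push f').Additive := inferInstance
  let K := (DerivedCategory.singleFunctor (EtCoh.Ab X') 0).obj F
  let eK : ∀ n : ℤ, DCoh.HDEt K n ≅ ((HomologicalComplex.single (EtCoh.Ab X') (ComplexShape.up ℤ) 0).obj F).homology n :=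
    fun n => (DerivedCategory.homologyFunctor (EtCoh.Ab X') n).mapIso
        ((DerivedCategory.singleFunctorIsoCompQ (EtCoh.Ab X') 0).app F) ≪≫
      (DerivedCategory.homologyFunctorFactors (EtCoh.Ab X') n).app _
  have hz : ∀ n : ℤ, n ≠ 0 → IsZero (DCoh.HDEt K n) := fun n hn =>
    (HomologicalComplex.isZero_single_obj_homology _ _ _ n hn).of_iso (eK n)
  have ht : ∀ n : ℤ, EtCoh.IsTorsion (DCoh.HDEt K n) := fun n => by
    by_cases hn : n = 0
    · subst hn
      exact CurveCd.isTorsion_of_mono (eK 0 ≪≫ HomologicalComplex.singleObjHomologySelfIso _ 0 F).hom hF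
    · haveI : Mono (0 : DCoh.HDEt K n ⟶ F) := ⟨fun a b _ => (hz n hn).eq_of_tgt _ _⟩
      exact CurveCd.isTorsion_of_mono (0 : DCoh.HDEt K n ⟶ F) hF
  obtain ⟨T, hT, htT, hac, ⟨eT⟩⟩ := EtPBCq.exists_torsion_rep K 0 (fun n hn => hz n (ne_of_lt hn)) ht
  haveI := hT
  obtain ⟨e₀⟩ := nonempty_shriek_push_iso f g f' g' w
  obtain ⟨e₁⟩ := EtPBCq.nonempty_RpushEt_mapD_iso f (shriekSh g') (EtCoh.push f' ⋙ shriekSh g) e₀ T 0
    (fun n p => isZero_Rpush_shriekSh_square f g f' g' w (T.X n) (htT n) (p + 1) (hac n f' p))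
  obtain ⟨e₂⟩ := EtPBCq.nonempty_RpushEt_Q_iso f' T 0 (fun n p => hac n f' p)
  obtain ⟨e₃⟩ := EtPBCq.nonempty_HDEt_RpushEt_single f ((shriekSh g').obj F) q
  obtain ⟨e₄⟩ := EtPBCq.nonempty_HDEt_RpushEt_single f' F q
  obtain ⟨e₅⟩ := EtPBCq.nonempty_homology_mapDerivedCategory (shriekSh g) ((DCoh.RpushEt X' f').obj K) (q : ℤ)
  let a : (DCoh.RpushEt X f).obj ((DerivedCategory.singleFunctor (EtCoh.Ab X) 0).obj ((shriekSh g').obj F)) ≅
      (shriekSh g).mapDerivedCategory.obj ((DCoh.RpushEt X' f').obj K) :=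
    (DCoh.RpushEt X f).mapIso ((((shriekSh g').mapDerivedCategorySingleFunctor 0).app F).symm ≪≫
      (shriekSh g').mapDerivedCategory.mapIso eT.symm) ≪≫ e₁ ≪≫
    DerivedCategory.Q.mapIso (HomologicalComplex.Hom.isoOfComponents
      (C₁ := ((EtCoh.push f' ⋙ shriekSh g).mapHomologicalComplex (ComplexShape.up ℤ)).obj T)
      (C₂ := ((shriekSh g).mapHomologicalComplex (ComplexShape.up ℤ)).obj
        (((EtCoh.push f').mapHomologicalComplex (ComplexShape.up ℤ)).obj T))
      (fun i => Iso.refl _) (by intro i k _; simp)) ≪≫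
    ((shriekSh g).mapDerivedCategoryFactors.app _).symm ≪≫
    (shriekSh g).mapDerivedCategory.mapIso (e₂.symm ≪≫ (DCoh.RpushEt X' f').mapIso eT)
  exact ⟨(shriekSh g).mapIso e₄.symm ≪≫ e₅.symm ≪≫
    ((DerivedCategory.homologyFunctor (EtCoh.Ab Y) (q : ℤ)).mapIso a).symm ≪≫ e₃⟩

end ShriekLib.BC
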