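import Groth.Agent.ShriekLib.BC.Main
import Groth.Agent.ShriekLib.LqfExact
import Groth.Agent.EtTorLib.PushColim
import Groth.Agent.EtMVLib.OpenSeq

/-!
# Sections with proper support commute with filtered colimits
-/

universe u

open CategoryTheory CategoryTheory.Limits AlgebraicGeometry Opposite

namespace ShriekLib.BC

set_option backward.isDefEq.respectTransparency false
set_option backward.isDefEq.respectTransparency.types false
set_option linter.unusedSectionVars false
set_option linter.style.haveILetI false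

open Groth.Agent

variable {X Y Z : Scheme.{u}}

theorem openCounit_naturality {U : Scheme.{u}} (j : U ⟶ X) [IsOpenImmersion j] [EtShriek.JCont j]
    {F G : EtCoh.Ab X} (a : F ⟶ G) :
    (shriekSh j).map ((EtShriek.restrAlong j).map a) ≫ openCounit j G = openCounit j F ≫ a := by
  haveI := isIso_toShriek_app j ((EtShriek.restrAlong j).obj F)
  haveI := isIso_toShriek_app j ((EtShriek.restrAlong j).obj G)
  have eF : (toShriek j).app ((EtShriek.restrAlong j).obj F) ≫ openCounit j F =
      (EtShriek.extZeroAdj j).counit.app F := IsIso.hom_inv_id_assoc _ _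
  have eG : (toShriek j).app ((EtShriek.restrAlong j).obj G) ≫ openCounit j G =
      (EtShriek.extZeroAdj j).counit.app G := IsIso.hom_inv_id_assoc _ _
  rw [← cancel_epi ((toShriek j).app ((EtShriek.restrAlong j).obj F)), ← Category.assoc, ← Category.assoc,
    ← (toShriek j).naturality, Category.assoc, eG, eF]
  exact (EtShriek.extZeroAdj j).counit.naturality a

/-- `f_!` commutes with filtered colimits -/
def ColimShriek (f : X ⟶ Y) [LocallyOfFiniteType f] : Prop :=
  ∀ (Λ : Type (u + 1)) [SmallCategory Λ] [IsFiltered Λ], PreservesColimitsOfShape Λ (shriekSh f)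

theorem ColimShriek.congr {f₁ f₂ : X ⟶ Y} (e : f₁ = f₂) [LocallyOfFiniteType f₁] [LocallyOfFiniteType f₂]
    (h : ColimShriek f₁) : ColimShriek f₂ := by
  subst e
  exact h

theorem colimShriek_lqf (f : X ⟶ Y) [IsSeparated f] [LocallyOfFiniteType f] [LocallyQuasiFinite f] :
    ColimShriek f := fun Λ _ _ => by
  haveI := shriekSh_isLeftAdjoint f
  infer_instance

theorem colimShriek_proper (f : X ⟶ Y) [IsProper f] : ColimShriek f := fun Λ _ _ => by
  have := isIso_shriekShι_of_isProper f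
  have : IsIso (shriekShι f) := NatIso.isIso_of_isIso_app _
  haveI := EtTorLib.preservesColimitsOfShape_push f Λ
  exact preservesColimitsOfShape_of_natIso (asIso (shriekShι f)).symm

theorem colimShriek_comp (j : X ⟶ Y) (p : Y ⟶ Z) [IsSeparated j] [LocallyOfFiniteType j] [IsSeparated p]
    [LocallyOfFiniteType p] (hj : ColimShriek j) (hp : ColimShriek p) : ColimShriek (j ≫ p) := fun Λ _ _ => by
  haveI := hj Λ
  haveI := hp Λ
  exact preservesColimitsOfShape_of_natIso (shriekShComp j p).symm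

theorem colimShriek_of_isAffine (f : X ⟶ Y) [IsSeparated f] [LocallyOfFiniteType f] [QuasiCompact f] [IsAffine Y] :
    ColimShriek f := by
  obtain ⟨Xb, j, p, hj, -, hp, rfl⟩ := NagataLib.exists_compactification f
  haveI := hj
  haveI := hp
  exact colimShriek_comp j p (colimShriek_lqf j) (colimShriek_proper p)

/-- on a quasi-compact support a section vanishing in a filtered colimit vanishes at a finite stage -/
theorem exists_map_eq_zero {Λ : Type (u + 1)} [SmallCategory Λ] [IsFiltered Λ] (D : Λ ⥤ EtCoh.Ab X)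
    {c : Cocone D} (hc : IsColimit c) (i : Λ) (U : X.Etale) (s : EtCoh.sect (D.obj i) U)
    (hs : IsCompact (EtShriek.sectSupp (D.obj i) U s)) (h0 : (c.ι.app i).hom.app (op U) s = 0) :
    ∃ (k : Λ) (a : i ⟶ k), (D.map a).hom.app (op U) s = 0 := by
  have hpt : ∀ x : U.left, ∃ (k : Λ) (a : i ⟶ k),
      x ∉ EtShriek.sectSupp (D.obj k) U ((D.map a).hom.app (op U) s) := by
    intro x
    obtain ⟨K, _, _, ξ, z, rfl⟩ := EtFound.exists_algClosed_point U x
    haveI : PreservesColimitsOfSize.{u + 1, u + 1} (EtCoh.stalk ξ) :=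
      inferInstanceAs (PreservesColimitsOfSize.{u + 1, u + 1} (Scheme.pointSmallEtale ξ).sheafFiber)
    let y := (Scheme.pointSmallEtale ξ).toPresheafFiber U z (D.obj i).obj s
    have hy : (EtCoh.stalk ξ).map (c.ι.app i) y = (EtCoh.stalk ξ).map (c.ι.app i) 0 := by
      rw [map_zero]
      refine ((Scheme.pointSmallEtale ξ).toPresheafFiber_naturality_apply (c.ι.app i).hom U z s).trans ?_
      rw [h0, map_zero]
    obtain ⟨k, a, b, hab⟩ := Concrete.isColimit_exists_of_rep_eq (D ⋙ EtCoh.stalk ξ)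
      (isColimitOfPreserves (EtCoh.stalk ξ) hc) y 0 hy
    refine ⟨k, a, ?_⟩
    rw [sectSupp_eq_germSupp]
    intro hm
    refine (EtFound.mem_germSupp_iff _ z).1 hm ?_
    exact ((Scheme.pointSmallEtale ξ).toPresheafFiber_naturality_apply (D.map a).hom U z s).symm.trans
      (hab.trans (map_zero _))
  obtain ⟨k, a, hka⟩ : ∃ (k : Λ) (a : i ⟶ k),
      Disjoint (EtShriek.sectSupp (D.obj i) U s) (EtShriek.sectSupp (D.obj k) U ((D.map a).hom.app (op U) s)) := by
    refine hs.induction_on (p := fun S => ∃ (k : Λ) (a : i ⟶ k),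
        Disjoint S (EtShriek.sectSupp (D.obj k) U ((D.map a).hom.app (op U) s))) ⟨i, 𝟙 i, disjoint_bot_left⟩
      (fun S T hST ⟨k, a, h⟩ => ⟨k, a, h.mono_left hST⟩) (fun S T ⟨k, a, h⟩ ⟨k', a', h'⟩ => ?_) fun x _ => ?_
    · obtain ⟨l, b, b', hb⟩ := IsFiltered.span a a'
      refine ⟨l, a ≫ b, Disjoint.union_left ?_ ?_⟩
      · refine h.mono_right ?_
        rw [D.map_comp]
        exact sectSupp_app (D.map b) U _
      · refine h'.mono_right ?_
        rw [hb, D.map_comp]
        exact sectSupp_app (D.map b') U _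
    · obtain ⟨k, a, hx⟩ := hpt x
      exact ⟨_, mem_nhdsWithin_of_mem_nhds ((isClosed_sectSupp _ _ _).isOpen_compl.mem_nhds hx), k, a,
        disjoint_compl_left⟩
  exact ⟨k, a, eq_zero_of_sectSupp_empty (Set.eq_empty_iff_forall_notMem.2 fun x hx =>
    Set.disjoint_left.1 hka (sectSupp_app (D.map a) U s hx) hx)⟩

/-- the support of a section with proper support over an affine scheme is quasi-compact -/
theorem isCompact_supp (f : X ⟶ Y) [LocallyOfFiniteType f] (F : EtCoh.Ab X) (W : Y.Etale) [IsAffine W.left]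
    (s : EtShriek.shriekSubgroup f F W) : IsCompact (EtShriek.sectSupp F _ s.1) := by
  obtain ⟨hC, hP⟩ := (mem_shriekSubgroup_iff f F W s.1).1 s.2
  let i := (Scheme.IdealSheafData.vanishingIdeal ⟨_, hC⟩).subschemeι
  haveI : IsProper (i ≫ EtShriek.prV f W) := hP
  haveI := QuasiCompact.compactSpace_of_compactSpace (i ≫ EtShriek.prV f W)
  rw [← QCoh.range_vanishing hC]
  exact isCompact_range i.continuous

theorem stalk_desc_injective (f : X ⟶ Y) [IsSeparated f] [LocallyOfFiniteType f] {Λ : Type (u + 1)}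
    [SmallCategory Λ] [IsFiltered Λ] (D : Λ ⥤ EtCoh.Ab X) {c : Cocone D} (hc : IsColimit c)
    {d : Cocone (D ⋙ shriekSh f)} (hd : IsColimit d) {Ω : Type u} [Field Ω] [IsSepClosed Ω]
    (η : Spec (CommRingCat.of Ω) ⟶ Y) :
    Function.Injective ((EtCoh.stalk η).map (hd.desc ((shriekSh f).mapCocone c))) := by
  refine (injective_iff_map_eq_zero _).2 fun x hx => ?_
  haveI : PreservesColimitsOfSize.{u + 1, u + 1} (EtCoh.stalk η) :=
    inferInstanceAs (PreservesColimitsOfSize.{u + 1, u + 1} (Scheme.pointSmallEtale η).sheafFiber)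
  obtain ⟨i, xi, rfl⟩ := Concrete.isColimit_exists_rep _ (isColimitOfPreserves (EtCoh.stalk η) hd) x
  obtain ⟨W₀, w₀, s₀, rfl⟩ := (Scheme.pointSmallEtale η).toPresheafFiber_jointly_surjective xi
  have hz : (EtCoh.stalk η).map ((shriekSh f).map (c.ι.app i))
      ((Scheme.pointSmallEtale η).toPresheafFiber W₀ w₀ ((shriekSh f).obj (D.obj i)).obj s₀) = 0 := by
    refine ((ConcreteCategory.congr_hom (show (EtCoh.stalk η).map (d.ι.app i) ≫
      (EtCoh.stalk η).map (hd.desc ((shriekSh f).mapCocone c)) = (EtCoh.stalk η).map ((shriekSh f).map (c.ι.app i)) from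
      ((EtCoh.stalk η).map_comp _ _).symm.trans (congrArg _ (hd.fac ((shriekSh f).mapCocone c) i))) _).symm.trans
      (ConcreteCategory.comp_apply _ _ _)).trans hx
  have hg : (Scheme.pointSmallEtale η).toPresheafFiber W₀ w₀ ((shriekSh f).obj c.pt).obj
      (((shriekSh f).map (c.ι.app i)).hom.app (op W₀) s₀) =
      (Scheme.pointSmallEtale η).toPresheafFiber W₀ w₀ ((shriekSh f).obj c.pt).obj 0 :=
    (((Scheme.pointSmallEtale η).toPresheafFiber_naturality_apply ((shriekSh f).map (c.ι.app i)).hom W₀ w₀ s₀).symm.trans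
      hz).trans (map_zero _).symm
  obtain ⟨W₁, a₁, w₁, hw₁, h₁⟩ := ((Scheme.pointSmallEtale η).toPresheafFiber_eq_iff' _ _ _ _).1 hg
  rw [map_zero] at h₁
  obtain ⟨_, ⟨O, hO, rfl⟩, hwO, -⟩ := W₁.left.isBasis_affineOpens.exists_subset_of_mem_open
    (Set.mem_univ (EtFound.ptOf w₁)) isOpen_univ
  obtain ⟨w, hw, -⟩ := EtFound.exists_lift_point (EtFound.restrictEtaleHom W₁ O) w₁ ⟨EtFound.ptOf w₁, hwO⟩ rfl
  let W := EtFound.restrictEtale W₁ O
  haveI : IsAffine W.left := hO
  let b : W ⟶ W₀ := EtFound.restrictEtaleHom W₁ O ≫ a₁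
  let s : EtShriek.shriekSubgroup f (D.obj i) W := ((shriekSh f).obj (D.obj i)).obj.map b.op s₀
  have hs : (c.ι.app i).hom.app (op ((EtCoh.bc f).obj W)) s.1 = 0 := by
    have h2 : ((shriekSh f).map (c.ι.app i)).hom.app (op W) s = 0 := by
      refine (NatTrans.naturality_apply ((shriekSh f).map (c.ι.app i)).hom b.op s₀).trans ?_
      refine (map_map ((shriekSh f).obj c.pt) a₁ (EtFound.restrictEtaleHom W₁ O) _).symm.trans ?_
      rw [h₁, map_zero]
    exact congrArg Subtype.val h2
  have hb : (Scheme.pointSmallEtale η).fiber.map b w = w₀ := by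
    rw [← hw₁, ← hw]
    exact ConcreteCategory.congr_hom ((Scheme.pointSmallEtale η).fiber.map_comp _ a₁) w
  obtain ⟨k, a, hk⟩ := exists_map_eq_zero D hc i _ s.1 (isCompact_supp f _ W s) hs
  have hk' : (EtCoh.stalk η).map ((shriekSh f).map (D.map a))
      ((Scheme.pointSmallEtale η).toPresheafFiber W₀ w₀ ((shriekSh f).obj (D.obj i)).obj s₀) = 0 := by
    rw [← hb, ← (Scheme.pointSmallEtale η).toPresheafFiber_w_apply]
    refine ((Scheme.pointSmallEtale η).toPresheafFiber_naturality_apply ((shriekSh f).map (D.map a)).hom W w s).trans ?_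
    exact (congrArg _ (Subtype.ext hk)).trans (map_zero _)
  have hn : (EtCoh.stalk η).map (d.ι.app i) = (EtCoh.stalk η).map ((shriekSh f).map (D.map a)) ≫
      (EtCoh.stalk η).map (d.ι.app k) := by
    rw [← Functor.map_comp]
    exact congrArg _ (d.w a).symm
  exact (ConcreteCategory.congr_hom hn _).trans ((ConcreteCategory.comp_apply _ _ _).trans
    ((congrArg _ hk').trans (map_zero _)))

theorem stalk_desc_surjective (f : X ⟶ Y) [IsSeparated f] [LocallyOfFiniteType f] {Λ : Type (u + 1)}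
    [SmallCategory Λ] [IsFiltered Λ] (D : Λ ⥤ EtCoh.Ab X) {c : Cocone D} (hc : IsColimit c)
    {d : Cocone (D ⋙ shriekSh f)} (hd : IsColimit d) {Ω : Type u} [Field Ω] [IsSepClosed Ω]
    (η : Spec (CommRingCat.of Ω) ⟶ Y) :
    Function.Surjective ((EtCoh.stalk η).map (hd.desc ((shriekSh f).mapCocone c))) := by
  intro y
  haveI : PreservesColimitsOfSize.{u + 1, u + 1} (EtCoh.stalk η) :=
    inferInstanceAs (PreservesColimitsOfSize.{u + 1, u + 1} (Scheme.pointSmallEtale η).sheafFiber)
  obtain ⟨W₀, w₀, s₀, rfl⟩ := (Scheme.pointSmallEtale η).toPresheafFiber_jointly_surjective y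
  obtain ⟨_, ⟨S₀, hS₀, rfl⟩, hyS, -⟩ := Y.isBasis_affineOpens.exists_subset_of_mem_open
    (Set.mem_univ (W₀.hom.base (EtFound.ptOf w₀))) isOpen_univ
  obtain ⟨_, ⟨O, hO, rfl⟩, hwO, hOS⟩ := W₀.left.isBasis_affineOpens.exists_subset_of_mem_open
    (show EtFound.ptOf w₀ ∈ (W₀.hom ⁻¹ᵁ S₀ : W₀.left.Opens) from hyS) (W₀.hom ⁻¹ᵁ S₀).isOpen
  obtain ⟨w, hw, -⟩ := EtFound.exists_lift_point (EtFound.restrictEtaleHom W₀ O) w₀ ⟨EtFound.ptOf w₀, hwO⟩ rfl
  let W := EtFound.restrictEtale W₀ O
  haveI : IsAffine W.left := hO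
  let σ : EtShriek.shriekSubgroup f c.pt W :=
    ((shriekSh f).obj c.pt).obj.map (EtFound.restrictEtaleHom W₀ O).op s₀
  suffices H : ∃ x, (EtCoh.stalk η).map (hd.desc ((shriekSh f).mapCocone c)) x =
      (Scheme.pointSmallEtale η).toPresheafFiber W w ((shriekSh f).obj c.pt).obj σ by
    obtain ⟨x, hx⟩ := H
    refine ⟨x, hx.trans ?_⟩
    exact ((Scheme.pointSmallEtale η).toPresheafFiber_w_apply _ w _ s₀).trans
      (congrArg (fun q => (Scheme.pointSmallEtale η).toPresheafFiber W₀ q ((shriekSh f).obj c.pt).obj s₀) hw)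
  have hKc := isCompact_supp f c.pt W σ
  obtain ⟨hC, hP⟩ := (mem_shriekSubgroup_iff f c.pt W σ.1).1 σ.2
  clear_value σ
  let T := (EtCoh.bc f).obj W
  let q : T.left ⟶ X := T.hom
  have hqS : q.base '' EtShriek.sectSupp c.pt T σ.1 ⊆ (f ⁻¹ᵁ S₀ : X.Opens) := by
    rintro _ ⟨x, -, rfl⟩
    have e : q ≫ f = EtShriek.prV f W ≫ (EtFound.restrictEtaleHom W₀ O).left ≫ W₀.hom := by
      show pullback.snd W.hom f ≫ f = pullback.fst W.hom f ≫ (Scheme.Opens.ι O) ≫ W₀.hom
      exact pullback.condition.symm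
    have hmem : W₀.hom.base ((Scheme.Opens.ι O).base ((EtShriek.prV f W).base x)) ∈ S₀ :=
      hOS ((EtShriek.prV f W).base x).2
    show f.base (q.base x) ∈ S₀
    rw [← Scheme.Hom.comp_apply, e, Scheme.Hom.comp_apply, Scheme.Hom.comp_apply]
    exact hmem
  obtain ⟨U, hUc, hUS, hKU⟩ := exists_compact_opens (hKc.image q.continuous) _ hqS
  let jU : U.toScheme ⟶ X := U.ι
  haveI : CompactSpace U.toScheme := isCompact_iff_compactSpace.1 hUc
  have hrange : Set.range (jU ≫ f).base ⊆ Set.range (Scheme.Opens.ι S₀).base := by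
    rintro _ ⟨x, rfl⟩
    rw [Scheme.Hom.comp_apply, Scheme.Opens.range_ι]
    exact hUS x.2
  let f₀ := IsOpenImmersion.lift (Scheme.Opens.ι S₀) (jU ≫ f) hrange
  have hf₀ : f₀ ≫ (Scheme.Opens.ι S₀) = jU ≫ f := IsOpenImmersion.lift_fac _ _ _
  haveI : IsAffine (Scheme.Opens.toScheme S₀) := hS₀
  haveI : IsSeparated (f₀ ≫ (Scheme.Opens.ι S₀)) := by rw [hf₀]; infer_instance
  haveI : IsSeparated f₀ := IsSeparated.of_comp f₀ (Scheme.Opens.ι S₀)
  haveI : LocallyOfFiniteType (f₀ ≫ (Scheme.Opens.ι S₀)) := by rw [hf₀]; infer_instance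
  haveI : LocallyOfFiniteType f₀ := locallyOfFiniteType_of_comp f₀ (Scheme.Opens.ι S₀)
  haveI : QuasiCompact f₀ := (HasAffineProperty.iff_of_isAffine (P := @QuasiCompact)).2 inferInstance
  haveI := ColimShriek.congr hf₀ (colimShriek_comp f₀ (Scheme.Opens.ι S₀) (colimShriek_of_isAffine f₀)
    (colimShriek_lqf (Scheme.Opens.ι S₀))) Λ
  let Φ := EtShriek.restrAlong jU ⋙ shriekSh jU ⋙ shriekSh f
  haveI : PreservesColimitsOfShape Λ (EtShriek.restrAlong jU) := by
    haveI : (EtCoh.pull jU).IsLeftAdjoint := (EtCoh.pullPushAdj jU).isLeftAdjoint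
    exact preservesColimitsOfShape_of_natIso (EtMVLib.restrIsoPull jU).symm
  haveI : PreservesColimitsOfShape Λ (shriekSh jU ⋙ shriekSh f) :=
    preservesColimitsOfShape_of_natIso (shriekShComp jU f)
  haveI : PreservesColimitsOfShape Λ Φ :=
    inferInstanceAs (PreservesColimitsOfShape Λ (EtShriek.restrAlong jU ⋙ shriekSh jU ⋙ shriekSh f))
  let α := openCounit jU c.pt
  haveI : Mono α := mono_openCounit jU c.pt
  obtain ⟨r, hr⟩ : ∃ r, α.hom.app (op T) r = σ.1 := by
    refine exists_lift_of_germs α T σ.1 fun k _ _ ξ t => ?_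
    by_cases ht : EtFound.ptOf t ∈ EtShriek.sectSupp c.pt T σ.1
    · refine surjective_stalk_openCounit jU c.pt ξ ?_ _
      rw [U.range_ι]
      refine Set.mem_of_eq_of_mem ?_ (hKU ⟨_, ht, rfl⟩)
      refine Eq.trans ?_ (Scheme.Hom.comp_apply _ _ _)
      exact congrArg (fun p : Spec (CommRingCat.of k) ⟶ X => p.base default) (CategoryTheory.Over.w t).symm
    · refine ⟨0, (map_zero _).trans ?_⟩
      rw [sectSupp_eq_germSupp, EtFound.mem_germSupp_iff, not_not] at ht
      exact ht.symm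
  have hmem : r ∈ EtShriek.shriekSubgroup f ((shriekSh jU).obj ((EtShriek.restrAlong jU).obj c.pt)) W := by
    rw [mem_shriekSubgroup_iff, ← sectSupp_app_of_mono α, hr]
    exact ⟨hC, hP⟩
  let yG : (EtCoh.stalk η).obj (Φ.obj c.pt) :=
    (Scheme.pointSmallEtale η).toPresheafFiber W w (Φ.obj c.pt).obj
      (⟨r, hmem⟩ : EtShriek.shriekSubgroup f ((shriekSh jU).obj ((EtShriek.restrAlong jU).obj c.pt)) W)
  obtain ⟨i, z, hz⟩ := Concrete.isColimit_exists_rep _
    (isColimitOfPreserves (EtCoh.stalk η) (isColimitOfPreserves Φ hc)) yG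
  refine ⟨(EtCoh.stalk η).map (d.ι.app i) ((EtCoh.stalk η).map ((shriekSh f).map (openCounit jU (D.obj i))) z), ?_⟩
  have e : ((shriekSh f).map (openCounit jU (D.obj i)) ≫ d.ι.app i) ≫ hd.desc ((shriekSh f).mapCocone c) =
      Φ.map (c.ι.app i) ≫ (shriekSh f).map α := by
    refine (Category.assoc _ _ _).trans ((congrArg (_ ≫ ·) (hd.fac ((shriekSh f).mapCocone c) i)).trans ?_)
    refine ((shriekSh f).map_comp _ _).symm.trans (Eq.trans ?_ ((shriekSh f).map_comp _ _))
    exact congrArg _ (openCounit_naturality jU (c.ι.app i)).symm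
  have e' := congr((EtCoh.stalk η).map $e z)
  rw [Functor.map_comp, Functor.map_comp, Functor.map_comp, ConcreteCategory.comp_apply,
    ConcreteCategory.comp_apply, ConcreteCategory.comp_apply] at e'
  refine e'.trans ((congrArg ((EtCoh.stalk η).map ((shriekSh f).map α)) hz).trans ?_)
  refine ((Scheme.pointSmallEtale η).toPresheafFiber_naturality_apply ((shriekSh f).map α).hom W w _).trans ?_
  exact congrArg _ (Subtype.ext hr)

theorem colimShriek (f : X ⟶ Y) [IsSeparated f] [LocallyOfFiniteType f] : ColimShriek f := by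
  intro Λ _ _
  refine ⟨fun {D} => preservesColimit_of_preserves_colimit_cocone (colimit.isColimit D) ?_⟩
  let hd := colimit.isColimit (D ⋙ shriekSh f)
  haveI : IsIso (hd.desc ((shriekSh f).mapCocone (colimit.cocone D))) := by
    refine (EtFound.isIso_iff_stalks _).2 fun Ω _ _ η => (ConcreteCategory.isIso_iff_bijective _).2
      ⟨stalk_desc_injective f D (colimit.isColimit D) hd η, stalk_desc_surjective f D (colimit.isColimit D) hd η⟩
  exact hd.ofPointIso

theorem preservesFilteredColimits_shriekSh (f : X ⟶ Y) [IsSeparated f] [LocallyOfFiniteType f] :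
    PreservesFilteredColimitsOfSize.{u, u} (shriekSh f) := by
  haveI : PreservesFilteredColimitsOfSize.{u + 1, u + 1} (shriekSh f) := ⟨fun Λ _ _ => colimShriek f Λ⟩
  exact preservesFilteredColimitsOfSize_of_univLE.{u + 1, u + 1, u, u} _

end ShriekLib.BC
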