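import Groth.Agent.ShriekLib.CompCompat
import Groth.Agent.EtFound.FiniteBaseChange
import Groth.Agent.EtFound.PullGerm

/-!
# The base change map for sections with proper support
-/

universe u

open CategoryTheory CategoryTheory.Limits AlgebraicGeometry Opposite

namespace ShriekLib.BC

set_option backward.isDefEq.respectTransparency false
set_option backward.isDefEq.respectTransparency.types false
set_option linter.unusedSectionVars false
set_option linter.style.haveILetI false

open Groth.Agent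

variable {X Y X' Y' : Scheme.{u}}

/-- supports of pulled back sections -/
theorem sectSupp_unit (h : X' ⟶ X) (F : EtCoh.Ab X) (U : X.Etale) (s : EtCoh.sect F U) :
    EtShriek.sectSupp ((EtCoh.pull h).obj F) ((EtCoh.bc h).obj U)
        (((EtCoh.pullPushAdj h).unit.app F).hom.app (op U) s) =
      (pullback.fst U.hom h).base ⁻¹' EtShriek.sectSupp F U s := by
  ext q
  obtain ⟨k, _, _, ξ, t, rfl⟩ := EtFound.exists_algClosed_point ((EtCoh.bc h).obj U) q
  have hp : (pullback.fst U.hom h).base (EtFound.ptOf t) = EtFound.ptOf (EtFound.bcFiberEquiv h ξ U t) :=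
    (Scheme.Hom.comp_apply _ _ _).symm
  refine (iff_of_eq (congrArg (EtFound.ptOf t ∈ ·) (sectSupp_eq_germSupp _ _ _))).trans ?_
  refine Iff.trans ?_ ((iff_of_eq (congrArg (· ∈ EtShriek.sectSupp F U s) hp)).trans
    ((iff_of_eq (congrArg (EtFound.ptOf (EtFound.bcFiberEquiv h ξ U t) ∈ ·) (sectSupp_eq_germSupp _ _ _))).trans
      (EtFound.mem_germSupp_iff _ _))).symm
  refine (EtFound.mem_germSupp_iff _ _).trans ?_
  have h0 := EtFound.germ_unit_eq_iff h ξ F U t s 0
  rw [map_zero, map_zero, map_zero] at h0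
  exact not_congr h0

variable {f : X ⟶ Y} {g : Y' ⟶ Y} {f' : X' ⟶ Y'} {g' : X' ⟶ X}

/-- the projection from the base changed source -/
noncomputable def prT (w : g' ≫ f = f' ≫ g) (V : Y.Etale) :
    ((EtCoh.bc f').obj ((EtCoh.bc g).obj V)).left ⟶ ((EtCoh.bc f).obj V).left :=
  (EtFound.bcSquare w V).left ≫ pullback.fst (pullback.snd V.hom f) g'

theorem prT_fst (w : g' ≫ f = f' ≫ g) (V : Y.Etale) :
    prT w V ≫ EtShriek.prV f V = EtShriek.prV f' ((EtCoh.bc g).obj V) ≫ pullback.fst V.hom g :=
  (Category.assoc _ _ _).trans (EtFound.bcSquare_fst w V)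

theorem prT_snd (w : g' ≫ f = f' ≫ g) (V : Y.Etale) :
    prT w V ≫ pullback.snd V.hom f = pullback.snd (pullback.snd V.hom g) f' ≫ g' := by
  refine (Category.assoc _ _ _).trans ((congrArg (_ ≫ ·) pullback.condition).trans ?_)
  exact (Category.assoc _ _ _).symm.trans (congrArg (· ≫ g') (MorphismProperty.Over.w (EtFound.bcSquare w V)))

theorem isPullback_prT (h : IsPullback g' f' f g) (V : Y.Etale) :
    IsPullback (prT h.w V) (EtShriek.prV f' ((EtCoh.bc g).obj V)) (EtShriek.prV f V) (pullback.fst V.hom g) := by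
  have outer : IsPullback (prT h.w V ≫ pullback.snd V.hom f) (pullback.fst (pullback.snd V.hom g) f') f
      (pullback.fst V.hom g ≫ V.hom) := by
    rw [prT_snd, pullback.condition]
    exact (IsPullback.of_hasPullback (pullback.snd V.hom g) f').flip.paste_horiz h
  exact IsPullback.of_right outer (prT_fst h.w V) (IsPullback.of_hasPullback V.hom f).flip

theorem sectSupp_bcImage (w : g' ≫ f = f' ≫ g) (F : EtCoh.Ab X) (V : Y.Etale)
    (s : EtCoh.sect F ((EtCoh.bc f).obj V)) :
    EtShriek.sectSupp ((EtCoh.pull g').obj F) ((EtCoh.bc f').obj ((EtCoh.bc g).obj V))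
        (((EtCoh.pull g').obj F).obj.map (EtFound.bcSquare w V).op
          (((EtCoh.pullPushAdj g').unit.app F).hom.app (op ((EtCoh.bc f).obj V)) s)) =
      (prT w V).base ⁻¹' EtShriek.sectSupp F _ s := by
  rw [sectSupp_map, sectSupp_unit]
  ext x
  rw [Set.mem_preimage, Set.mem_preimage, Set.mem_preimage]
  exact iff_of_eq (congrArg (· ∈ EtShriek.sectSupp F _ s) (Scheme.Hom.comp_apply _ _ _).symm)

variable (f g f' g') [LocallyOfFiniteType f] [LocallyOfFiniteType f']

/-- `f_! F ⟶ g_* f'_* g'^{-1} F` -/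
noncomputable def toPush (w : g' ≫ f = f' ≫ g) (F : EtCoh.Ab X) :
    (shriekSh f).obj F ⟶ (EtCoh.push g).obj ((EtCoh.push f').obj ((EtCoh.pull g').obj F)) :=
  (shriekShι f).app F ≫ (EtCoh.pullPushAdj g).homEquiv _ _ (EtCoh.baseChange0 f g f' g' w F)

theorem toPush_app (w : g' ≫ f = f' ≫ g) (F : EtCoh.Ab X) (V : Y.Etale)
    (s : EtShriek.shriekSubgroup f F V) :
    (toPush f g f' g' w F).hom.app (op V) s =
      ((EtCoh.pull g').obj F).obj.map (EtFound.bcSquare w V).op
          (((EtCoh.pullPushAdj g').unit.app F).hom.app (op ((EtCoh.bc f).obj V)) s.1) := by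
  have h := ConcreteCategory.congr_hom (EtFound.baseChange0_unit f g f' g' w F V) s.1
  rw [ConcreteCategory.comp_apply, ConcreteCategory.comp_apply] at h
  refine Eq.trans ?_ h
  rw [toPush, Adjunction.homEquiv_unit]
  rfl

theorem toPush_mem (h : IsPullback g' f' f g) (F : EtCoh.Ab X) (V : Y.Etale)
    (s : EtShriek.shriekSubgroup f F V) :
    (toPush f g f' g' h.w F).hom.app (op V) s ∈
      EtShriek.shriekSubgroup f' ((EtCoh.pull g').obj F) ((EtCoh.bc g).obj V) := by
  rw [toPush_app, mem_shriekSubgroup_iff, sectSupp_bcImage]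
  exact QCoh.IsProperOver.baseChange (isPullback_prT h V) ((mem_shriekSubgroup_iff f F V s.1).1 s.2)

/-- `f_! F ⟶ g_* f'_! g'^{-1} F` -/
noncomputable def toShriekPush (h : IsPullback g' f' f g) (F : EtCoh.Ab X) :
    (shriekSh f).obj F ⟶ (EtCoh.push g).obj ((shriekSh f').obj ((EtCoh.pull g').obj F)) :=
  ObjectProperty.homMk
    { app := fun V => AddCommGrpCat.ofHom (AddMonoidHom.codRestrict
        ((toPush f g f' g' h.w F).hom.app V).hom _ fun s => toPush_mem f g f' g' h F V.unop s)
      naturality := fun V W a => by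
        ext s
        exact Subtype.ext (NatTrans.naturality_apply (toPush f g f' g' h.w F).hom a s) }

theorem toShriekPush_ι (h : IsPullback g' f' f g) (F : EtCoh.Ab X) :
    toShriekPush f g f' g' h F ≫ (EtCoh.push g).map ((shriekShι f').app ((EtCoh.pull g').obj F)) =
      toPush f g f' g' h.w F := by
  refine ObjectProperty.hom_ext _ ?_
  ext V s
  rfl

/-- the base change map `g^{-1} f_! ⟶ f'_! g'^{-1}` -/
noncomputable def phi (h : IsPullback g' f' f g) (F : EtCoh.Ab X) :
    (EtCoh.pull g).obj ((shriekSh f).obj F) ⟶ (shriekSh f').obj ((EtCoh.pull g').obj F) :=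
  ((EtCoh.pullPushAdj g).homEquiv _ _).symm (toShriekPush f g f' g' h F)

theorem phi_ι (h : IsPullback g' f' f g) (F : EtCoh.Ab X) :
    phi f g f' g' h F ≫ (shriekShι f').app ((EtCoh.pull g').obj F) =
      (EtCoh.pull g).map ((shriekShι f).app F) ≫ EtCoh.baseChange0 f g f' g' h.w F := by
  rw [phi, ← Adjunction.homEquiv_naturality_right_symm, toShriekPush_ι, toPush,
    Adjunction.homEquiv_naturality_left_symm, Equiv.symm_apply_apply]

theorem phi_unit (h : IsPullback g' f' f g) (F : EtCoh.Ab X) (V : Y.Etale)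
    (s : EtShriek.shriekSubgroup f F V) :
    (phi f g f' g' h F).hom.app (op ((EtCoh.bc g).obj V))
        (((EtCoh.pullPushAdj g).unit.app ((shriekSh f).obj F)).hom.app (op V) s) =
      (⟨(toPush f g f' g' h.w F).hom.app (op V) s, toPush_mem f g f' g' h F V s⟩ :
        EtShriek.shriekSubgroup f' ((EtCoh.pull g').obj F) ((EtCoh.bc g).obj V)) := by
  have e : (EtCoh.pullPushAdj g).unit.app ((shriekSh f).obj F) ≫ (EtCoh.push g).map (phi f g f' g' h F) =
      toShriekPush f g f' g' h F :=
    (Adjunction.homEquiv_unit _ _ _ _).symm.trans (Equiv.apply_symm_apply _ _)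
  exact congr(($e).hom.app (op V) s)

theorem phi_germ (h : IsPullback g' f' f g) (F : EtCoh.Ab X) {Ω : Type u} [Field Ω] [IsSepClosed Ω]
    {η : Spec (CommRingCat.of Ω) ⟶ Y'} (V : Y.Etale)
    (t : (Scheme.pointSmallEtale η).fiber.obj ((EtCoh.bc g).obj V)) (s : EtShriek.shriekSubgroup f F V) :
    (EtCoh.stalk η).map (phi f g f' g' h F) ((EtFound.sheafFiberPullIso g η).inv.app ((shriekSh f).obj F)
        ((Scheme.pointSmallEtale (η ≫ g)).toPresheafFiber V (EtFound.bcFiberEquiv g η V t)
          ((shriekSh f).obj F).obj s)) =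
      (Scheme.pointSmallEtale η).toPresheafFiber ((EtCoh.bc g).obj V) t ((shriekSh f').obj ((EtCoh.pull g').obj F)).obj
        (⟨(toPush f g f' g' h.w F).hom.app (op V) s, toPush_mem f g f' g' h F V s⟩ :
          EtShriek.shriekSubgroup f' ((EtCoh.pull g').obj F) ((EtCoh.bc g).obj V)) := by
  have h1 := ConcreteCategory.congr_hom (EtFound.sheafFiberPullIso_germ g η ((shriekSh f).obj F) V t) s
  rw [ConcreteCategory.comp_apply, ConcreteCategory.comp_apply] at h1
  refine (congrArg ((EtCoh.stalk η).map (phi f g f' g' h F)) h1).trans ?_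
  refine ((Scheme.pointSmallEtale η).toPresheafFiber_naturality_apply (phi f g f' g' h F).hom _ t _).trans ?_
  exact congrArg _ (phi_unit f g f' g' h F V s)

theorem phi_naturality (h : IsPullback g' f' f g) {F G : EtCoh.Ab X} (α : F ⟶ G) :
    (EtCoh.pull g).map ((shriekSh f).map α) ≫ phi f g f' g' h G =
      phi f g f' g' h F ≫ (shriekSh f').map ((EtCoh.pull g').map α) := by
  rw [phi, phi, ← Adjunction.homEquiv_naturality_left_symm, ← Adjunction.homEquiv_naturality_right_symm]
  refine congrArg _ ?_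
  haveI : Mono ((EtCoh.push g).map ((shriekShι f').app ((EtCoh.pull g').obj G))) := by
    haveI : (EtCoh.push g).IsRightAdjoint := (EtCoh.pullPushAdj g).isRightAdjoint
    infer_instance
  rw [← cancel_mono ((EtCoh.push g).map ((shriekShι f').app ((EtCoh.pull g').obj G))), Category.assoc,
    Category.assoc, toShriekPush_ι, ← Functor.map_comp, (shriekShι f').naturality, Functor.map_comp,
    ← Category.assoc, toShriekPush_ι]
  refine ObjectProperty.hom_ext _ ?_
  ext V s
  show (toPush f g f' g' h.w G).hom.app V (((shriekSh f).map α).hom.app V s) =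
    ((EtCoh.pull g').map α).hom.app (op ((EtCoh.bc f').obj ((EtCoh.bc g).obj V.unop)))
      ((toPush f g f' g' h.w F).hom.app V s)
  refine (toPush_app f g f' g' h.w G V.unop _).trans ?_
  refine Eq.trans ?_ (congrArg _ (toPush_app f g f' g' h.w F V.unop s)).symm
  refine Eq.trans ?_ (NatTrans.naturality_apply ((EtCoh.pull g').map α).hom _ _).symm
  refine congrArg _ ?_
  exact congr(($((EtCoh.pullPushAdj g').unit.naturality α)).hom.app (op ((EtCoh.bc f).obj V.unop)) s.1)

theorem stalk_phi_injective (h : IsPullback g' f' f g) (F : EtCoh.Ab X) {Ω : Type u} [Field Ω] [IsSepClosed Ω]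
    (η : Spec (CommRingCat.of Ω) ⟶ Y') : Function.Injective ((EtCoh.stalk η).map (phi f g f' g' h F)) := by
  refine (injective_iff_map_eq_zero _).2 fun x hx => ?_
  let i := (EtFound.sheafFiberPullIso g η).app ((shriekSh f).obj F)
  obtain ⟨V, v, s, hy⟩ := (Scheme.pointSmallEtale (η ≫ g)).toPresheafFiber_jointly_surjective (i.hom x)
  let t := (EtFound.bcFiberEquiv g η V).symm v
  have hv : EtFound.bcFiberEquiv g η V t = v := Equiv.apply_symm_apply _ _
  have hxi : i.inv ((Scheme.pointSmallEtale (η ≫ g)).toPresheafFiber V v ((shriekSh f).obj F).obj s) = x := by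
    refine (congrArg i.inv hy).trans ?_
    exact ((ConcreteCategory.comp_apply _ _ _).symm.trans (ConcreteCategory.congr_hom i.hom_inv_id x)).trans
      (ConcreteCategory.id_apply _)
  suffices hs : (Scheme.pointSmallEtale (η ≫ g)).toPresheafFiber V v ((shriekSh f).obj F).obj s = 0 by
    rw [← hxi, hs, map_zero]
  rw [← hxi, ← hv] at hx
  have hz := (phi_germ f g f' g' h F V t s).symm.trans hx
  rw [← map_zero ((Scheme.pointSmallEtale η).toPresheafFiber ((EtCoh.bc g).obj V) t
    ((shriekSh f').obj ((EtCoh.pull g').obj F)).obj).hom] at hz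
  obtain ⟨W, a, w, hw, ha⟩ := ((Scheme.pointSmallEtale η).toPresheafFiber_eq_iff' _ _ _ _).1 hz
  rw [map_zero] at ha
  obtain ⟨hC, hP⟩ := (mem_shriekSubgroup_iff f F V s.1).1 s.2
  let j := (Scheme.IdealSheafData.vanishingIdeal ⟨_, hC⟩).subschemeι
  haveI : IsProper (j ≫ EtShriek.prV f V) := hP
  have hv' : EtFound.ptOf v ∉ Set.range (j ≫ EtShriek.prV f V).base := by
    rintro ⟨y, hy⟩
    have hx0 : j.base y ∈ EtShriek.sectSupp F _ s.1 := (QCoh.range_vanishing hC).le ⟨y, rfl⟩
    have he : (EtShriek.prV f V).base (j.base y) = (pullback.fst V.hom g).base (EtFound.ptOf t) := by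
      refine ((Scheme.Hom.comp_apply _ _ _).symm.trans hy).trans ?_
      exact (congrArg EtFound.ptOf hv).symm.trans (Scheme.Hom.comp_apply _ _ _)
    obtain ⟨z, hz1, hz2⟩ := Scheme.exists_preimage_of_isPullback (isPullback_prT h V) _ _ he
    have hz3 : (EtShriek.prV f' ((EtCoh.bc g).obj V)).base z = a.left.base (EtFound.ptOf w) :=
      hz2.trans ((congrArg EtFound.ptOf hw).symm.trans (EtFound.ptOf_map a w))
    obtain ⟨z', hz1', -⟩ := Scheme.exists_preimage_of_isPullback (isPullback_prV f' a) _ _ hz3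
    have hmem : z' ∈ EtShriek.sectSupp _ _ (((EtCoh.pull g').obj F).obj.map ((EtCoh.bc f').map a).op
        ((toPush f g f' g' h.w F).hom.app (op V) s)) := by
      rw [sectSupp_map, toPush_app, Set.mem_preimage, hz1', sectSupp_bcImage, Set.mem_preimage, hz1]
      exact hx0
    rw [show ((EtCoh.pull g').obj F).obj.map ((EtCoh.bc f').map a).op
        ((toPush f g f' g' h.w F).hom.app (op V) s) = 0 from congrArg Subtype.val ha, sectSupp_zero] at hmem
    exact hmem
  let O : V.left.Opens := ⟨(Set.range (j ≫ EtShriek.prV f V).base)ᶜ,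
    ((j ≫ EtShriek.prV f V).isClosedMap.isClosed_range).isOpen_compl⟩
  obtain ⟨v₀, hv₀, -⟩ := EtFound.exists_lift_point (EtFound.restrictEtaleHom V O) v ⟨EtFound.ptOf v, hv'⟩ rfl
  have h0 : ((shriekSh f).obj F).obj.map (EtFound.restrictEtaleHom V O).op s = 0 := by
    refine Subtype.ext (eq_zero_of_sectSupp_empty ?_)
    show EtShriek.sectSupp F _ (F.obj.map ((EtCoh.bc f).map (EtFound.restrictEtaleHom V O)).op s.1) = ∅
    rw [sectSupp_map]
    refine Set.eq_empty_iff_forall_notMem.2 fun p hp => ?_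
    obtain ⟨y, hy⟩ := (QCoh.range_vanishing hC).ge hp
    have hmem : O.ι.base ((EtShriek.prV f (EtFound.restrictEtale V O)).base p) ∈ O :=
      ((EtShriek.prV f (EtFound.restrictEtale V O)).base p).2
    apply hmem
    refine ⟨y, (Scheme.Hom.comp_apply _ _ _).trans ((congrArg _ hy).trans ?_)⟩
    refine (Scheme.Hom.comp_apply _ _ _).symm.trans (Eq.trans ?_ (Scheme.Hom.comp_apply _ _ _))
    exact congrArg (fun q : ((EtCoh.bc f).obj (EtFound.restrictEtale V O)).left ⟶ V.left => q.base p)
      (pullback.lift_fst _ _ _)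
  rw [← hv₀, ← (Scheme.pointSmallEtale (η ≫ g)).toPresheafFiber_w_apply]
  exact (congrArg _ h0).trans (map_zero _)

theorem mono_phi (h : IsPullback g' f' f g) (F : EtCoh.Ab X) : Mono (phi f g f' g' h F) :=
  (EtFound.mono_iff_stalks _).2 fun Ω _ _ η => stalk_phi_injective f g f' g' h F η

theorem isIso_phi_of_surjective (h : IsPullback g' f' f g) (F : EtCoh.Ab X)
    (H : ∀ (Ω : Type u) [Field Ω] [IsSepClosed Ω] (η : Spec (CommRingCat.of Ω) ⟶ Y'),
      Function.Surjective ((EtCoh.stalk η).map (phi f g f' g' h F))) : IsIso (phi f g f' g' h F) :=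
  haveI := mono_phi f g f' g' h F
  haveI : Epi (phi f g f' g' h F) := (EtFound.epi_iff_stalks _).2 H
  isIso_of_mono_of_epi _

end ShriekLib.BC
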