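import Groth.Agent.ShriekLib.BC.Basic
import Groth.Agent.ShriekLib.Lqf

/-!
# Base change for sections with proper support along locally quasi-finite morphisms
-/

universe u

open CategoryTheory CategoryTheory.Limits AlgebraicGeometry Opposite

namespace ShriekLib.BC

set_option backward.isDefEq.respectTransparency false
set_option backward.isDefEq.respectTransparency.types false
set_option linter.unusedSectionVars false
set_option linter.style.haveILetI false

open Groth.Agent

variable {X Y X' Y' : Scheme.{u}} (f : X ⟶ Y) (g : Y' ⟶ Y) (f' : X' ⟶ Y') (g' : X' ⟶ X)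
  [IsSeparated f] [LocallyOfFiniteType f] [LocallyQuasiFinite f]
  [IsSeparated f'] [LocallyOfFiniteType f'] [LocallyQuasiFinite f']
variable {Ω : Type u} [Field Ω] [IsAlgClosed Ω] {η : Spec (CommRingCat.of Ω) ⟶ Y'}

theorem lqfProj_phi (h : IsPullback g' f' f g) (F : EtCoh.Ab X) (z : EtFound.PtsOver f' η)
    (x : (EtCoh.stalk (η ≫ g)).obj ((shriekSh f).obj F)) :
    lqfProj f' z ((EtCoh.pull g').obj F)
        ((EtCoh.stalk η).map (phi f g f' g' h F) ((EtFound.sheafFiberPullIso g η).inv.app ((shriekSh f).obj F) x)) =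
      (EtFound.sheafFiberPullIso g' z.1).inv.app F (lqfProj f (EtFound.pointsEquiv h η z) F x) := by
  have key := EtFound.baseChange_stalk (A := AddCommGrpCat.{u + 1}) f g f' g' h.w F
    (EtCoh.baseChange0 f g f' g' h.w F) (EtFound.baseChange0_unit f g f' g' h.w F) z.2 (EtFound.pointsEquiv h η z).2
  have nat : (EtCoh.stalk (η ≫ g)).map ((shriekShι f).app F) ≫
      (EtFound.sheafFiberPullIso g η).inv.app ((EtCoh.push f).obj F) =
      (EtFound.sheafFiberPullIso g η).inv.app ((shriekSh f).obj F) ≫
        (EtCoh.stalk η).map ((EtCoh.pull g).map ((shriekShι f).app F)) :=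
    (EtFound.sheafFiberPullIso g η).inv.naturality ((shriekShι f).app F)
  have h1 : (EtFound.sheafFiberPullIso g η).inv.app ((shriekSh f).obj F) ≫
      (EtCoh.stalk η).map (phi f g f' g' h F) ≫ lqfProj f' z ((EtCoh.pull g').obj F) =
      lqfProj f (EtFound.pointsEquiv h η z) F ≫ (EtFound.sheafFiberPullIso g' z.1).inv.app F := by
    refine Eq.trans ?_ ((congrArg ((EtCoh.stalk (η ≫ g)).map ((shriekShι f).app F) ≫ ·) key).trans
      (Category.assoc _ _ _).symm)
    refine Eq.trans ?_ ((Category.assoc _ _ _).symm.trans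
      ((congrArg (· ≫ _) nat).trans (Category.assoc _ _ _))).symm
    refine congrArg (_ ≫ ·) ?_
    refine (Category.assoc _ _ _).symm.trans (Eq.trans ?_ (Category.assoc _ _ _))
    refine congrArg (· ≫ _) ?_
    refine ((EtCoh.stalk η).map_comp _ _).symm.trans (Eq.trans ?_ ((EtCoh.stalk η).map_comp _ _))
    rw [phi_ι]
  exact congr($h1 x)

theorem surjective_stalk_phi (h : IsPullback g' f' f g) (F : EtCoh.Ab X) :
    Function.Surjective ((EtCoh.stalk η).map (phi f g f' g' h F)) := by
  classical
  intro y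
  choose single h1 h2 using exists_single_lqfProj f (η := η ≫ g) F
  let T := (finite_lqfProj f' ((EtCoh.pull g').obj F) y).toFinset
  let E := EtFound.pointsEquiv h η
  let J := fun z : EtFound.PtsOver f' η => (EtFound.sheafFiberPullIso g' z.1).app F
  let x₀ := ∑ z ∈ T, single (E z) ((J z).hom (lqfProj f' z ((EtCoh.pull g').obj F) y))
  refine ⟨(EtFound.sheafFiberPullIso g η).inv.app ((shriekSh f).obj F) x₀, ?_⟩
  refine sub_eq_zero.1 (injective_lqfProj f' _ _ fun z => ?_)
  rw [map_sub, sub_eq_zero]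
  refine (lqfProj_phi f g f' g' h F z x₀).trans ?_
  by_cases hz : z ∈ T
  · rw [map_sum, Finset.sum_eq_single z (fun z' _ hne => h2 (E z') _ (E z) (fun e => hne (E.injective e).symm))
      (fun h => absurd hz h)]
    refine (congrArg _ (h1 (E z) _)).trans ?_
    exact (ConcreteCategory.comp_apply _ _ _).symm.trans
      ((ConcreteCategory.congr_hom (J z).hom_inv_id _).trans (ConcreteCategory.id_apply _))
  · rw [map_sum, Finset.sum_eq_zero (fun z' hz' => h2 (E z') _ (E z) (fun e => hz ((E.injective e) ▸ hz'))), map_zero]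
    by_contra hne
    exact hz ((Set.Finite.mem_toFinset _).2 (Ne.symm hne))

theorem isIso_phi_lqf (h : IsPullback g' f' f g) (F : EtCoh.Ab X) : IsIso (phi f g f' g' h F) := by
  refine isIso_phi_of_surjective f g f' g' h F fun Ω₀ _ _ η₀ => ?_
  let Ω := AlgebraicClosure Ω₀
  let l : Spec (CommRingCat.of Ω) ⟶ Spec (CommRingCat.of Ω₀) :=
    Spec.map (CommRingCat.ofHom (algebraMap Ω₀ Ω))
  have hm : IsIso ((EtCoh.stalk (l ≫ η₀)).map (phi f g f' g' h F)) :=
    (ConcreteCategory.isIso_iff_bijective _).2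
      ⟨stalk_phi_injective f g f' g' h F _, surjective_stalk_phi f g f' g' h F⟩
  have := (NatIso.isIso_map_iff (EtFound.stalkExtIso AddCommGrpCat.{u + 1} η₀ l) (phi f g f' g' h F)).2 hm
  exact ((ConcreteCategory.isIso_iff_bijective ((EtCoh.stalk η₀).map (phi f g f' g' h F))).1 this).2

end ShriekLib.BC
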