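import Groth.Agent.ShriekLib.BC.Main
import Groth.Agent.EtPBCq.RshriekTools
import Groth.Agent.EtPBCq.RpushCoprod
import Groth.Agent.EtPBCq.RpushSingle
import Groth.Agent.EtPBCq.ProperBC
import Groth.Agent.EtFound.PushExact
import Groth.Agent.EtMVLib.OpenSeq
import Groth.Agent.GalTorLib.CohDim
import Groth.Agent.SiteBase.DerivedPrecomp
import Groth.Agent.ShriekLib.LqfExact
import Groth.Agent.EtPBCq.ShriekPush

/-!
# Higher direct images along proper morphisms of `g_!`, `g` locally quasi-finite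
-/

universe u

open CategoryTheory CategoryTheory.Limits AlgebraicGeometry Opposite

namespace ShriekLib.BC

set_option backward.isDefEq.respectTransparency false
set_option backward.isDefEq.respectTransparency.types false
set_option linter.unusedSectionVars false
set_option linter.style.haveILetI false
set_option maxHeartbeats 1000000

open Groth.Agent

variable {X Y : Scheme.{u}}

/-- `R^p h_* ∘ c_* ≅ a_* ∘ R^p b_*` for finite `a`, `c` -/
theorem isZero_Rpush_push_finite {W P U Z : Scheme.{u}} (c : W ⟶ P) (h : P ⟶ Z) (b : W ⟶ U) (a : U ⟶ Z)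
    [IsFinite c] [IsFinite a] (w : c ≫ h = b ≫ a) (p : ℕ) (H : EtCoh.Ab W)
    (hz : IsZero ((EtCoh.Rpush b p).obj H)) : IsZero ((EtCoh.Rpush h p).obj ((EtCoh.push c).obj H)) := by
  haveI := EtFound.push_preservesFiniteColimits c
  haveI := EtFound.push_preservesFiniteLimits c
  haveI := EtFound.push_preservesFiniteColimits a
  haveI := EtFound.push_preservesFiniteLimits a
  haveI : (EtCoh.push c).PreservesInjectiveObjects := ⟨fun hJ => by
    haveI := EtFound.pull_preservesFiniteLimits c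
    haveI : (EtCoh.pull c).PreservesMonomorphisms := preservesMonomorphisms_of_preservesLimitsOfShape _
    exact Injective.injective_of_adjoint (EtCoh.pullPushAdj c) _⟩
  haveI : (EtCoh.push c).IsRightAdjoint := (EtCoh.pullPushAdj c).isRightAdjoint
  haveI : (EtCoh.push a).IsRightAdjoint := (EtCoh.pullPushAdj a).isRightAdjoint
  haveI : (EtCoh.push b).IsRightAdjoint := (EtCoh.pullPushAdj b).isRightAdjoint
  haveI : (EtCoh.push h).IsRightAdjoint := (EtCoh.pullPushAdj h).isRightAdjoint
  haveI : (EtCoh.push c).Additive := inferInstance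
  haveI : (EtCoh.push a).Additive := inferInstance
  haveI : (EtCoh.push b).Additive := inferInstance
  haveI : (EtCoh.push h).Additive := inferInstance
  let e : EtCoh.push c ⋙ EtCoh.push h ≅ EtCoh.push b ⋙ EtCoh.push a :=
    EtCoh.pushComp h c ≪≫ EtCoh.pushCongr w ≪≫ (EtCoh.pushComp a b).symm
  let e' : EtCoh.push c ⋙ EtCoh.Rpush h p ≅ EtCoh.Rpush b p ⋙ EtCoh.push a :=
    (SiteBase.rightDerivedPrecompIso (EtCoh.push c) (EtCoh.push h) p).symm ≪≫
      ⟨NatTrans.rightDerived e.hom p, NatTrans.rightDerived e.inv p,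
        by rw [← NatTrans.rightDerived_comp, e.hom_inv_id, NatTrans.rightDerived_id],
        by rw [← NatTrans.rightDerived_comp, e.inv_hom_id, NatTrans.rightDerived_id]⟩ ≪≫
      SiteBase.rightDerivedCompIso (EtCoh.push b) (EtCoh.push a) p
  exact ((EtCoh.push a).map_isZero hz).of_iso (e'.app H)

/-- stalks of `j_!` outside the closed image of an open immersion vanish -/
theorem isZero_stalk_shriekSh_outside {U : Scheme.{u}} (j : U ⟶ X) [IsOpenImmersion j]
    (hj : IsClosed (Set.range j.base)) (F : EtCoh.Ab U) {Ω : Type u} [Field Ω] [IsSepClosed Ω]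
    (ξ : Spec (CommRingCat.of Ω) ⟶ X) (hξ : ξ.base default ∉ Set.range j.base) :
    IsZero ((EtCoh.stalk ξ).obj ((shriekSh j).obj F)) := by
  obtain ⟨hu⟩ := EtFound.nonempty_unique_stalk (A := AddCommGrpCat.{u + 1}) hj ((EtCoh.push j).obj F)
    (fun V hV => EtFound.push_unique_of_disjoint j F V hV) ξ hξ
  haveI : Subsingleton ((EtCoh.stalk ξ).obj ((EtCoh.push j).obj F)) := hu.instSubsingleton
  haveI : Subsingleton ((EtCoh.stalk ξ).obj ((shriekSh j).obj F)) :=
    ((EtFound.mono_iff_stalks ((shriekShι j).app F)).1 inferInstance Ω ξ).subsingleton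
  exact AddCommGrpCat.isZero_of_subsingleton _

/-- a sheaf is the direct sum of its restrictions to a partition into open subschemes -/
theorem exists_isIso_partition {ι : Type (u + 1)} (W : ι → X.Opens)
    (hcov : ∀ x : X, ∃ i, x ∈ W i) (hdisj : ∀ i k, ∀ x : X, x ∈ W i → x ∈ W k → i = k)
    (G : EtCoh.Ab X) [HasCoproduct fun i => (shriekSh (W i).ι).obj ((EtShriek.restrAlong (W i).ι).obj G)] :
    IsIso (Limits.Sigma.desc fun i => openCounit (W i).ι G) := by
  classical
  let M := fun i => (shriekSh (W i).ι).obj ((EtShriek.restrAlong (W i).ι).obj G)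
  have hclosed : ∀ i, IsClosed (Set.range (W i).ι.base) := fun i => by
    rw [(W i).range_ι]
    refine ⟨isOpen_iff_forall_mem_open.2 fun x hx => ?_⟩
    obtain ⟨k, hk⟩ := hcov x
    exact ⟨W k, fun y hy hy' => hx (hdisj k i y hy hy' ▸ hk), (W k).isOpen, hk⟩
  refine (EtFound.isIso_iff_stalks _).2 fun Ω _ _ ξ => ?_
  obtain ⟨i, hi⟩ := hcov (ξ.base default)
  haveI : PreservesColimitsOfSize.{u + 1, u + 1} (EtCoh.stalk ξ) :=
    inferInstanceAs (PreservesColimitsOfSize.{u + 1, u + 1} (Scheme.pointSmallEtale ξ).sheafFiber)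
  have hz : ∀ k, k ≠ i → IsZero ((EtCoh.stalk ξ).obj (M k)) := fun k hk => by
    refine isZero_stalk_shriekSh_outside _ (hclosed k) _ ξ fun h => hk ?_
    rw [(W k).range_ι] at h
    exact hdisj k i _ h hi
  let ι₀ := (EtCoh.stalk ξ).map (Limits.Sigma.ι M i)
  let hc := isColimitMapCoconeCofanMkEquiv (EtCoh.stalk ξ) M (Limits.Sigma.ι M)
    (isColimitOfPreserves (EtCoh.stalk ξ) (coproductIsCoproduct M))
  haveI : IsIso ι₀ := by
    let r : (EtCoh.stalk ξ).obj (∐ M) ⟶ (EtCoh.stalk ξ).obj (M i) :=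
      Cofan.IsColimit.desc hc fun k => if h : k = i then eqToHom (by rw [h]) else 0
    have h1 : ι₀ ≫ r = 𝟙 _ := (Cofan.IsColimit.fac hc _ i).trans (by rw [dif_pos rfl]; rfl)
    refine ⟨r, h1, Cofan.IsColimit.hom_ext hc _ _ fun k => ?_⟩
    by_cases h : k = i
    · subst h
      show (EtCoh.stalk ξ).map (Limits.Sigma.ι M k) ≫ r ≫ ι₀ = _
      rw [← Category.assoc, h1, Category.id_comp]
      exact (Category.comp_id _).symm
    · exact (hz k h).eq_of_src _ _
  have hι : (Limits.Sigma.ι M i) ≫ (Limits.Sigma.desc fun i => openCounit (W i).ι G) = openCounit (W i).ι G :=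
    Limits.Sigma.ι_desc _ _
  haveI : IsIso ((EtCoh.stalk ξ).map (openCounit (W i).ι G)) := (ConcreteCategory.isIso_iff_bijective _).2
    ⟨(EtFound.mono_iff_stalks _).1 (mono_openCounit _ G) Ω ξ,
      surjective_stalk_openCounit _ G ξ (by rw [(W i).range_ι]; exact hi)⟩
  haveI : IsIso (ι₀ ≫ (EtCoh.stalk ξ).map (Limits.Sigma.desc fun i => openCounit (W i).ι G)) := by
    rw [← Functor.map_comp, hι]; infer_instance
  exact IsIso.of_isIso_comp_left ι₀ _

/-- the vanishing over a separably closed field -/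
theorem isZero_Rpush_shriekSh_discrete {P P' D : Scheme.{u}} {Ω : Type u} [Field Ω] (q : P' ⟶ P)
    [IsSeparated q] [LocallyOfFiniteType q] [LocallyQuasiFinite q] (h : P ⟶ Spec (CommRingCat.of Ω)) [IsProper h]
    (b : P' ⟶ D) [IsProper b] (e : D ⟶ Spec (CommRingCat.of Ω)) [IsSeparated e] [LocallyOfFiniteType e]
    [LocallyQuasiFinite e] (w : q ≫ h = b ≫ e) (G : EtCoh.Ab P') (hG : EtCoh.IsTorsion G) (p : ℕ)
    (hz : IsZero ((EtCoh.Rpush b p).obj G)) : IsZero ((EtCoh.Rpush h p).obj ((shriekSh q).obj G)) := by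
  haveI : IsArtinianRing (CommRingCat.of Ω) := inferInstanceAs (IsArtinianRing Ω)
  haveI : DiscreteTopology ↥D := isDiscrete_univ_iff.1 (by
    have h1 := e.isDiscrete_preimage_singleton (default : Spec (CommRingCat.of Ω))
    have h2 : e ⁻¹' {(default : Spec (CommRingCat.of Ω))} = Set.univ :=
      Set.eq_univ_of_forall fun _ => Subsingleton.elim _ _
    rwa [h2] at h1)
  let U : ULift.{u + 1} ↥D → D.Opens := fun d => ⟨{d.down}, isOpen_discrete _⟩
  let W : ULift.{u + 1} ↥D → P'.Opens := fun d => b ⁻¹ᵁ U d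
  have hcov : ∀ x : P', ∃ d, x ∈ W d := fun x => ⟨⟨b.base x⟩, rfl⟩
  have hdisj : ∀ d d', ∀ x : P', x ∈ W d → x ∈ W d' → d = d' := fun d d' x hd hd' =>
    ULift.down_injective ((show b.base x = d.down from hd).symm.trans hd')
  haveI := IsGrothendieckAbelian.hasColimits (EtCoh.Ab P')
  haveI := IsGrothendieckAbelian.hasColimits (EtCoh.Ab P)
  let M := fun d => (shriekSh (W d).ι).obj ((EtShriek.restrAlong (W d).ι).obj G)
  haveI := exists_isIso_partition W hcov hdisj G
  haveI := shriekSh_preservesCoproducts_big q (ULift.{u + 1} ↥D)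
  refine IsZero.of_iso ?_ ((EtCoh.Rpush h p).mapIso
    ((shriekSh q).mapIso (asIso (Limits.Sigma.desc fun d => openCounit (W d).ι G)).symm ≪≫
      PreservesCoproduct.iso (shriekSh q) M))
  refine EtPBCq.isZero_Rpush_sigma h _ p fun d => ?_
  let j := (W d).ι
  let bd : (W d).toScheme ⟶ (U d).toScheme := b ∣_ U d
  let ed : (U d).toScheme ⟶ Spec (CommRingCat.of Ω) := (U d).ι ≫ e
  haveI : CompactSpace ↥(U d).toScheme := isCompact_iff_compactSpace.1 isCompact_singleton
  haveI : QuasiCompact ed := (HasAffineProperty.iff_of_isAffine (P := @QuasiCompact)).2 inferInstance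
  haveI : IsFinite ed := IsFinite.of_locallyQuasiFinite ed
  have sq : IsPullback j bd b (U d).ι := (isPullback_morphismRestrict b (U d)).flip
  haveI : IsProper bd := MorphismProperty.of_isPullback sq inferInstance
  have wj : (j ≫ q) ≫ h = bd ≫ ed := by
    rw [Category.assoc, w, ← Category.assoc, sq.w, Category.assoc]
  haveI : IsProper ((j ≫ q) ≫ h) := by rw [wj]; infer_instance
  haveI : IsProper (j ≫ q) := IsProper.of_comp (j ≫ q) h
  haveI : IsFinite (j ≫ q) := IsFinite.of_isProper_of_locallyQuasiFinite _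
  haveI := isIso_shriekShι_of_isProper (j ≫ q) ((EtShriek.restrAlong j).obj G)
  refine IsZero.of_iso ?_ ((EtCoh.Rpush h p).mapIso
    (((shriekShComp j q).app ((EtShriek.restrAlong j).obj G)).symm ≪≫
      asIso ((shriekShι (j ≫ q)).app ((EtShriek.restrAlong j).obj G))))
  refine isZero_Rpush_push_finite (j ≫ q) h bd ed wj p _ (IsZero.of_iso ?_
    ((EtCoh.Rpush bd p).mapIso ((EtMVLib.restrIsoPull j).app G)))
  haveI := EtFound.pull_preservesFiniteLimits j
  haveI := EtPBCq.isIso_bcQ_proper b (U d).ι bd j sq G hG p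
  haveI : (EtCoh.pull (U d).ι).Additive := (EtCoh.pullPushAdj (U d).ι).left_adjoint_additive
  exact ((EtCoh.pull (U d).ι).map_isZero hz).of_iso (asIso (EtBC.bcQ b (U d).ι bd j sq.w p G)).symm

theorem isZero_Rpush_shriekSh_square {X' Y' : Scheme.{u}} (f : X ⟶ Y) (g : Y' ⟶ Y) (f' : X' ⟶ Y') (g' : X' ⟶ X)
    (w : g' ≫ f = f' ≫ g) [IsProper f] [IsProper f'] [IsSeparated g] [LocallyOfFiniteType g] [LocallyQuasiFinite g]
    [IsSeparated g'] [LocallyOfFiniteType g'] [LocallyQuasiFinite g'] (T : EtCoh.Ab X') (hT : EtCoh.IsTorsion T)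
    (p : ℕ) (hac : IsZero ((EtCoh.Rpush f' p).obj T)) : IsZero ((EtCoh.Rpush f p).obj ((shriekSh g').obj T)) := by
  refine (EtFound.isZero_iff_stalks _).2 fun Ω _ _ ξ => ?_
  let P := pullback f ξ
  let hP := IsPullback.of_hasPullback f ξ
  let hj := IsPullback.of_hasPullback g' (pullback.fst f ξ)
  let g₂ := pullback.fst g' (pullback.fst f ξ)
  let q := pullback.snd g' (pullback.fst f ξ)
  let h := pullback.snd f ξ
  let e := pullback.snd g ξ
  haveI : IsProper h := MorphismProperty.of_isPullback hP ‹_›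
  haveI : IsSeparated q := MorphismProperty.of_isPullback hj inferInstance
  haveI : LocallyOfFiniteType q := MorphismProperty.of_isPullback hj inferInstance
  haveI : LocallyQuasiFinite q := MorphismProperty.of_isPullback hj inferInstance
  let hD := IsPullback.of_hasPullback g ξ
  haveI : IsSeparated e := MorphismProperty.of_isPullback hD inferInstance
  haveI : LocallyOfFiniteType e := MorphismProperty.of_isPullback hD inferInstance
  haveI : LocallyQuasiFinite e := MorphismProperty.of_isPullback hD inferInstance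
  have outer : IsPullback g₂ (q ≫ h) (f' ≫ g) ξ := w ▸ hj.paste_vert hP
  have hw : (g₂ ≫ f') ≫ g = (q ≫ h) ≫ ξ := by rw [Category.assoc]; exact outer.w
  obtain ⟨b, hb1, hb2⟩ : ∃ b, b ≫ pullback.fst g ξ = g₂ ≫ f' ∧ b ≫ e = q ≫ h :=
    ⟨hD.lift _ _ hw, hD.lift_fst _ _ _, hD.lift_snd _ _ _⟩
  have sq : IsPullback g₂ b f' (pullback.fst g ξ) :=
    IsPullback.of_bot (hb2.symm ▸ outer) hb1.symm hD
  haveI : IsProper b := MorphismProperty.of_isPullback sq inferInstance
  haveI := EtFound.pull_preservesFiniteLimits g₂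
  haveI := EtPBCq.isIso_bcQ_proper f' (pullback.fst g ξ) b g₂ sq T hT p
  haveI : (EtCoh.pull (pullback.fst g ξ)).Additive := (EtCoh.pullPushAdj _).left_adjoint_additive
  have hb : IsZero ((EtCoh.Rpush b p).obj ((EtCoh.pull g₂).obj T)) :=
    ((EtCoh.pull (pullback.fst g ξ)).map_isZero hac).of_iso
      (asIso (EtBC.bcQ f' (pullback.fst g ξ) b g₂ sq.w p T)).symm
  have hfib := isZero_Rpush_shriekSh_discrete q h b e hb2.symm _ (GalTorLib.isTorsion_pull g₂ T hT) p hb
  haveI := isIso_phi g' (pullback.fst f ξ) q g₂ hj T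
  haveI := EtFound.pull_preservesFiniteLimits (pullback.fst f ξ)
  haveI := EtPBCq.isIso_bcQ_proper f ξ h (pullback.fst f ξ) hP ((shriekSh g').obj T)
    (EtPBCq.isTorsion_shriekSh g' hT) p
  have hpull : IsZero ((EtCoh.pull ξ).obj ((EtCoh.Rpush f p).obj ((shriekSh g').obj T))) :=
    hfib.of_iso (asIso (EtBC.bcQ f ξ h (pullback.fst f ξ) hP.w p ((shriekSh g').obj T)) ≪≫
      (EtCoh.Rpush h p).mapIso (asIso (phi g' (pullback.fst f ξ) q g₂ hj T)))
  let k0 := 𝟙 (Spec (CommRingCat.of Ω))
  let e1 : EtCoh.pull ξ ⋙ EtCoh.stalk k0 ≅ EtCoh.stalk ξ :=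
    EtFound.sheafFiberPullIso ξ k0 ≪≫
      eqToIso (congrArg (fun r : Spec (CommRingCat.of Ω) ⟶ Y => EtCoh.stalk r) (Category.id_comp ξ))
  haveI : PreservesFiniteColimits (EtCoh.stalk k0) := inferInstance
  exact ((EtCoh.stalk k0).map_isZero hpull).of_iso (e1.app _).symm

end ShriekLib.BC
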